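import Cfsg.Agent.Lib.CoThreeSp6.LevelE.Tab

/-! The coset enumeration over the normaliser of an elementary abelian group: checks. -/

set_option autoImplicit false
set_option maxRecDepth 100000
set_option Elab.async false

namespace Cfsg.Agent.CoThreeSp6.LevelE

open Cfsg.Agent.CosetCert

/-- The steps of segment 0, part 0. -/
def ph0_0 : List ℕ := [
  2048, 2049, 2050, 2051, 2052, 4180, 4182, 8281, 8288, 8290,
  12400, 12408, 8329, 16384, 16390, 49167, 24629, 20535, 49208, 20540,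
  24650, 49237, 28758, 53370, 41090, 53378, 36997, 32901, 45056, 57344,
  45062]

/-- Segment 0. -/
def seg0 : List Phase := [.scans ph0_0]

theorem seg0_ok : stIs (runList (phaseStep P) seg0 ⟨15, mask0, []⟩) 15 mask1 = true := by decide +kernel

/-- The steps of segment 1, part 0. -/
def ph1_0 : List Aux := [
  .node 1 2, .derive 15 [.bwd 0, .edge 4, .edge 1, .edge 4, .fwd 0] [1] (.rel 1), .derive 15 [.bwd 1, .edge 0, .edge 2, .edge 0, .edge 2, .edge 0, .fwd 1] [0] (.rel 5), .derive 15 [.bwd 2, .edge 0, .edge 4, .edge 2, .edge 4, .edge 1, .edge 0, .edge 1, .edge 2] [4] (.rel 32), .node 3 3, .derive 16 [.bwd 0, .edge 2, .edge 3, .edge 1, .edge 3, .edge 2, .fwd 0] [1] (.rel 8), .node 3 5, .derive 17 [.bwd 0, .edge 0, .edge 1, .edge 0, .fwd 0] [1] (.rel 86), .node 4 5, .derive 18 [.bwd 0, .edge 4, .fwd 2] [4] (.rel 84),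
  .derive 18 [.bwd 1, .edge 0, .edge 1, .edge 0, .fwd 1] [1] (.rel 86), .node 6 0, .derive 19 [.bwd 0, .edge 1, .edge 4, .edge 3, .edge 1, .edge 3, .edge 4, .fwd 0] [1] (.rel 17), .node 7 0, .derive 20 [.bwd 0, .edge 5, .edge 1, .edge 5, .fwd 0] [1] (.rel 87), .node 7 2, .derive 21 [.bwd 0, .edge 5, .bwd 12, .bwd 13, .bwd 14, .bwd 13, .fwd 12, .edge 5, .fwd 0] [1] (.rel 109), .node 7 3, .derive 22 [.bwd 0, .edge 5, .edge 3, .edge 1, .edge 3, .edge 5, .fwd 0] [1] (.rel 89), .derive 22 [.bwd 1, .edge 5, .edge 0, .edge 3, .edge 4, .edge 5, .edge 2, .edge 0, .edge 2, .edge 4, .edge 1] [0] (.rel 124),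
  .node 7 4, .derive 23 [.bwd 0, .fwd 5, .bwd 4, .bwd 5, .fwd 0] [1] (.rel 0), .derive 23 [.bwd 1, .edge 5, .bwd 18] [5] (.rel 85), .node 8 3, .derive 24 [.bwd 0, .bwd 4, .bwd 6, .fwd 8, .bwd 7, .bwd 8, .fwd 6, .fwd 4, .fwd 0] [1] (.rel 48), .node 9 0, .derive 25 [.bwd 0, .edge 1, .edge 4, .fwd 2, .bwd 1, .bwd 2, .edge 4, .fwd 0] [1] (.rel 17), .derive 25 [.bwd 1, .edge 5, .edge 3, .edge 0, .edge 2, .edge 0, .edge 1, .edge 2, .fwd 18] [3] (.rel 106), .node 9 3, .derive 26 [.bwd 0, .edge 4, .bwd 9, .bwd 10, .fwd 9, .edge 1, .edge 4, .fwd 0] [1] (.rel 16),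
  .node 10 3, .derive 27 [.bwd 0, .edge 2, .fwd 2, .bwd 1, .bwd 2, .edge 2, .fwd 0] [1] (.rel 8), .node 10 5, .derive 28 [.bwd 0, .edge 0, .edge 1, .edge 0, .fwd 0] [1] (.rel 86), .node 11 0, .derive 29 [.bwd 0, .edge 1, .edge 4, .fwd 4, .bwd 3, .bwd 4, .edge 4, .fwd 0] [1] (.rel 17), .node 11 3, .derive 30 [.bwd 0, .edge 4, .edge 0, .edge 1, .edge 0, .edge 1, .edge 4, .fwd 0] [1] (.rel 16), .node 11 5, .derive 31 [.bwd 0, .edge 4, .fwd 6] [4] (.rel 84),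
  .derive 31 [.bwd 1, .fwd 5, .bwd 4, .bwd 5, .fwd 1] [1] (.rel 86), .node 12 0, .derive 32 [.bwd 0, .edge 3, .edge 0, .edge 3, .fwd 30] [3] (.rel 3), .derive 32 [.bwd 1, .edge 1, .edge 4, .edge 3, .edge 1, .edge 3, .edge 4, .fwd 1] [1] (.rel 17), .node 13 3, .derive 33 [.bwd 0, .edge 2, .fwd 21, .bwd 20, .bwd 21, .edge 2, .fwd 0] [1] (.rel 8), .node 13 5, .derive 34 [.bwd 0, .edge 0, .edge 1, .edge 0, .fwd 0] [1] (.rel 86), .node 14 0, .derive 35 [.bwd 0, .edge 1, .edge 4, .fwd 4, .bwd 3, .bwd 4, .edge 4, .fwd 0] [1] (.rel 17),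
  .node 14 3, .derive 36 [.bwd 0, .edge 2, .fwd 14, .bwd 13, .bwd 14, .edge 2, .fwd 0] [1] (.rel 8), .node 14 5, .derive 37 [.bwd 0, .edge 4, .fwd 6] [4] (.rel 84), .derive 37 [.bwd 1, .fwd 5, .bwd 4, .bwd 5, .fwd 1] [1] (.rel 86), .node 15 3, .derive 38 [.bwd 0, .bwd 55, .edge 3, .edge 1, .edge 3, .fwd 55, .fwd 0] [1] (.rel 8), .derive 38 [.bwd 1, .fwd 53, .edge 3, .edge 4, .edge 3, .edge 4, .fwd 52] [4] (.rel 13), .node 16 0, .derive 39 [.bwd 0, .bwd 54, .edge 0, .fwd 54, .fwd 0] [3] (.rel 3),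
  .derive 39 [.bwd 1, .bwd 54, .bwd 2, .bwd 4, .bwd 58, .fwd 4, .fwd 2, .fwd 1] [1] (.rel 17), .derive 39 [.bwd 2, .bwd 55, .bwd 56, .edge 4, .edge 3, .edge 4, .edge 1, .fwd 49] [4] (.rel 19), .node 16 2, .node 16 5, .derive 41 [.bwd 0, .fwd 5, .bwd 3, .bwd 5, .fwd 0] [1] (.rel 86), .node 17 0, .derive 42 [.bwd 0, .bwd 58, .bwd 56, .bwd 38, .bwd 39, .fwd 38, .fwd 56, .fwd 0] [1] (.rel 17), .node 17 2, .derive 43 [.bwd 0, .bwd 58, .bwd 57, .fwd 58, .fwd 0] [1] (.rel 1), .node 17 3,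
  .derive 44 [.bwd 0, .bwd 60, .bwd 42, .bwd 44, .edge 1, .fwd 44, .fwd 42, .fwd 60, .bwd 62, .fwd 0] [1] (.rel 52), .derive 44 [.bwd 1, .bwd 63, .bwd 61, .bwd 43, .bwd 45, .edge 4, .bwd 51, .bwd 53, .edge 1, .fwd 53] [4] (.rel 67), .node 18 0, .derive 45 [.bwd 0, .bwd 62, .fwd 63, .fwd 3, .bwd 2, .bwd 3, .bwd 63, .fwd 0] [1] (.rel 17), .derive 45 [.bwd 1, .bwd 46, .bwd 48, .edge 4, .edge 1, .bwd 54, .bwd 56, .fwd 60, .bwd 59] [4] (.rel 38), .derive 45 [.bwd 2, .bwd 47, .bwd 49, .edge 5, .fwd 33, .fwd 32, .bwd 63, .edge 5, .bwd 55, .bwd 57, .fwd 61] [5] (.rel 137), .derive 42 [.bwd 10, .fwd 68, .bwd 66, .fwd 3, .fwd 1, .bwd 0, .bwd 2, .bwd 3, .fwd 66, .fwd 10] [5] (.rel 110), .node 18 2, .derive 46 [.bwd 0, .fwd 68, .bwd 70, .bwd 68, .fwd 0] [1] (.rel 1), .node 19 2,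
  .derive 47 [.bwd 0, .bwd 18, .bwd 19, .fwd 18, .fwd 0] [1] (.rel 1), .node 19 5, .derive 48 [.bwd 0, .bwd 70, .edge 1, .fwd 70, .fwd 0] [1] (.rel 86), .node 20 2, .derive 49 [.bwd 0, .bwd 9, .bwd 10, .fwd 9, .fwd 0] [1] (.rel 1), .node 20 3, .derive 50 [.bwd 0, .bwd 72, .fwd 68, .fwd 66, .fwd 62] [0] (.rel 2), .derive 50 [.bwd 1, .bwd 12, .bwd 14, .bwd 76, .fwd 14, .bwd 13, .fwd 12, .fwd 1] [1] (.rel 16), .node 21 0, .derive 51 [.bwd 0, .bwd 73, .fwd 71, .fwd 69, .edge 1, .bwd 69, .bwd 70, .bwd 71, .fwd 73, .fwd 0] [1] (.rel 49),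
  .node 21 3, .derive 52 [.bwd 0, .bwd 75, .fwd 73, .bwd 72, .bwd 73, .fwd 75, .fwd 0] [1] (.rel 8), .node 21 4, .derive 53 [.bwd 0, .bwd 77, .edge 1, .fwd 77, .fwd 0] [1] (.rel 0), .node 21 5, .node 22 2, .derive 55 [.bwd 0, .bwd 24, .bwd 25, .fwd 24, .fwd 0] [1] (.rel 1), .node 22 5, .derive 56 [.bwd 0, .fwd 78, .edge 1, .bwd 78, .fwd 0] [1] (.rel 86), .node 23 0]

/-- The steps of segment 1, part 1. -/
def ph1_1 : List Aux := [
  .derive 57 [.bwd 0, .bwd 79, .fwd 86, .bwd 25, .bwd 27, .fwd 90, .fwd 34] [4] (.rel 11), .derive 57 [.bwd 1, .bwd 79, .bwd 80, .fwd 83, .bwd 82, .bwd 83, .fwd 80, .fwd 1] [1] (.rel 17), .node 23 2, .derive 58 [.bwd 0, .bwd 82, .edge 1, .fwd 82, .fwd 0] [1] (.rel 1), .node 23 3, .derive 59 [.bwd 0, .bwd 84, .fwd 87, .bwd 33, .bwd 35, .bwd 95, .bwd 77] [4] (.rel 13), .derive 59 [.bwd 1, .bwd 85, .fwd 92, .bwd 91, .bwd 92, .edge 1, .fwd 85, .fwd 1] [1] (.rel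 16), .derive 59 [.bwd 2, .bwd 86, .edge 5, .edge 2, .edge 0, .edge 2, .edge 4, .edge 1, .edge 0, .fwd 102, .fwd 43] [0] (.rel 126), .node 24 2, .derive 60 [.bwd 0, .bwd 22, .bwd 23, .bwd 95, .edge 1, .fwd 95, .fwd 23, .fwd 22, .fwd 0] [1] (.rel 23),
  .node 24 4, .derive 61 [.bwd 0, .fwd 2, .bwd 1, .bwd 2, .fwd 0] [1] (.rel 0), .derive 61 [.bwd 1, .bwd 88, .edge 4, .edge 1, .fwd 86, .bwd 6, .fwd 4, .bwd 47] [3] (.rel 21), .node 24 5, .derive 62 [.bwd 0, .bwd 27, .bwd 26, .fwd 27, .fwd 0] [1] (.rel 86), .node 25 2, .derive 63 [.bwd 0, .bwd 10, .bwd 9, .fwd 10, .fwd 0] [1] (.rel 1), .derive 63 [.bwd 1, .bwd 91, .edge 2, .edge 0, .edge 2, .bwd 97, .fwd 21] [0] (.rel 5), .node 25 5, .derive 64 [.bwd 0, .bwd 93, .edge 1, .fwd 93, .fwd 0] [1] (.rel 86),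
  .node 26 0, .derive 65 [.bwd 0, .bwd 92, .fwd 95, .fwd 93, .fwd 48] [3] (.rel 3), .derive 65 [.bwd 1, .bwd 93, .fwd 96, .fwd 6, .bwd 5, .bwd 6, .bwd 96, .fwd 93, .fwd 1] [1] (.rel 24), .node 26 2, .derive 66 [.bwd 0, .fwd 3, .fwd 2, .bwd 51, .bwd 113, .fwd 51, .bwd 2, .bwd 3, .fwd 0] [1] (.rel 23), .node 26 4, .derive 67 [.bwd 0, .fwd 2, .bwd 1, .bwd 2, .fwd 0] [1] (.rel 0), .node 26 5, .derive 68 [.bwd 0, .fwd 7, .bwd 5, .bwd 7, .fwd 0] [1] (.rel 86), .node 27 0,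
  .derive 69 [.bwd 0, .bwd 99, .edge 0, .edge 2, .edge 1, .edge 2, .edge 0, .fwd 99, .fwd 0] [1] (.rel 24), .node 27 2, .derive 70 [.bwd 0, .bwd 101, .edge 1, .edge 2, .edge 1, .edge 2, .fwd 101, .bwd 100, .fwd 0] [1] (.rel 43), .node 27 4, .derive 71 [.bwd 0, .fwd 2, .bwd 1, .bwd 2, .fwd 0] [1] (.rel 0), .node 27 5, .derive 72 [.bwd 0, .fwd 6, .bwd 5, .bwd 6, .fwd 0] [1] (.rel 86), .node 28 0, .derive 73 [.bwd 0, .bwd 105, .edge 1, .fwd 105, .fwd 0] [1] (.rel 87), .node 28 2,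
  .derive 74 [.bwd 0, .bwd 100, .bwd 99, .fwd 100, .fwd 0] [1] (.rel 1), .node 28 3, .derive 75 [.bwd 0, .bwd 109, .fwd 111, .bwd 110, .bwd 111, .fwd 109, .fwd 0] [1] (.rel 89), .node 29 2, .derive 76 [.bwd 0, .bwd 109, .edge 2, .edge 1, .edge 2, .edge 1, .fwd 109, .bwd 108, .fwd 0] [1] (.rel 26), .derive 76 [.bwd 1, .bwd 110, .edge 4, .edge 2, .edge 4, .edge 1, .bwd 125, .bwd 126, .fwd 49] [4] (.rel 32), .node 29 3, .derive 77 [.bwd 0, .bwd 112, .edge 2, .fwd 98, .bwd 97, .bwd 98, .edge 2, .fwd 112, .bwd 111, .fwd 0] [1] (.rel 50), .derive 77 [.bwd 1, .bwd 112, .bwd 113, .edge 1, .edge 2, .edge 4, .edge 0, .edge 4, .edge 2, .fwd 97] [4] (.rel 57), .node 29 4,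
  .derive 78 [.bwd 0, .fwd 6, .bwd 5, .bwd 6, .fwd 0] [1] (.rel 0), .derive 78 [.fwd 0, .bwd 1, .fwd 7, .fwd 5, .bwd 55, .bwd 79, .bwd 80] [2] (.rel 6), .node 29 5, .derive 79 [.bwd 0, .bwd 118, .edge 1, .fwd 118, .fwd 0] [1] (.rel 86), .node 30 0, .derive 80 [.bwd 0, .bwd 118, .fwd 120, .fwd 11, .bwd 10, .bwd 11, .bwd 120, .fwd 118, .fwd 0] [1] (.rel 24), .node 30 2, .derive 81 [.bwd 0, .bwd 120, .edge 1, .edge 2, .edge 1, .edge 2, .fwd 120, .bwd 119, .fwd 0] [1] (.rel 43), .node 30 4, .derive 82 [.bwd 0, .fwd 2, .bwd 1, .bwd 2, .fwd 0] [1] (.rel 0),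
  .derive 82 [.bwd 1, .bwd 123, .edge 4, .edge 1, .edge 0, .edge 4, .fwd 111, .bwd 110] [3] (.rel 21), .node 30 5, .derive 83 [.bwd 0, .fwd 7, .bwd 6, .bwd 7, .fwd 0] [1] (.rel 86), .node 31 0, .derive 84 [.bwd 0, .bwd 123, .fwd 124, .fwd 22, .bwd 21, .bwd 22, .bwd 124, .fwd 0] [1] (.rel 17), .node 31 2, .derive 85 [.bwd 0, .fwd 126, .bwd 132, .bwd 126, .fwd 0] [1] (.rel 1), .node 31 3, .derive 86 [.bwd 0, .fwd 128, .fwd 30, .bwd 29, .bwd 30, .bwd 134, .bwd 128, .fwd 0] [1] (.rel 16), .node 32 2,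
  .derive 87 [.bwd 0, .bwd 128, .edge 3, .edge 0, .edge 1, .edge 0, .edge 3, .fwd 128, .fwd 0] [1] (.rel 23), .derive 87 [.bwd 1, .bwd 129, .edge 4, .edge 2, .edge 4, .edge 1, .fwd 159, .bwd 158, .fwd 91] [4] (.rel 32), .node 32 4, .derive 88 [.bwd 0, .fwd 3, .bwd 2, .bwd 3, .fwd 0] [1] (.rel 0), .derive 88 [.fwd 0, .bwd 1, .fwd 4, .fwd 2, .bwd 94, .bwd 112, .bwd 113] [2] (.rel 6), .derive 88 [.bwd 2, .bwd 133, .edge 4, .fwd 163, .bwd 113, .bwd 116, .bwd 117] [0] (.rel 12), .derive 88 [.bwd 3, .fwd 133, .bwd 114, .bwd 116, .fwd 114, .bwd 133, .fwd 3] [3] (.rel 14), .node 32 5, .derive 89 [.bwd 0, .bwd 136, .edge 1, .fwd 136, .fwd 0] [1] (.rel 86), .node 33 0,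
  .derive 90 [.bwd 0, .bwd 135, .edge 0, .fwd 149, .fwd 50] [3] (.rel 3), .derive 90 [.bwd 1, .bwd 136, .edge 0, .edge 2, .edge 1, .edge 2, .edge 0, .fwd 136, .fwd 1] [1] (.rel 24), .node 33 2, .derive 91 [.bwd 0, .fwd 3, .fwd 2, .bwd 53, .bwd 151, .fwd 53, .bwd 2, .bwd 3, .fwd 0] [1] (.rel 23), .node 33 4, .derive 92 [.bwd 0, .fwd 2, .bwd 1, .bwd 2, .fwd 0] [1] (.rel 0), .derive 92 [.bwd 1, .bwd 141, .edge 4, .fwd 135, .bwd 37, .bwd 39, .fwd 36] [3] (.rel 14), .node 33 5, .derive 93 [.bwd 0, .fwd 8, .bwd 6, .bwd 8, .fwd 0] [1] (.rel 86), .node 34 0,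
  .derive 94 [.bwd 0, .bwd 143, .edge 1, .fwd 143, .fwd 0] [1] (.rel 87), .node 34 2, .derive 95 [.bwd 0, .bwd 138, .bwd 137, .fwd 138, .fwd 0] [1] (.rel 1), .node 34 3, .derive 96 [.bwd 0, .bwd 147, .fwd 149, .bwd 148, .bwd 149, .fwd 147, .fwd 0] [1] (.rel 89), .node 35 2, .derive 97 [.bwd 0, .bwd 147, .edge 2, .edge 1, .edge 2, .edge 1, .fwd 147, .bwd 146, .fwd 0] [1] (.rel 26), .derive 97 [.bwd 1, .bwd 148, .edge 4, .edge 2, .edge 4, .edge 1, .fwd 171, .bwd 170, .fwd 81] [4] (.rel 32), .node 35 4, .derive 98 [.bwd 0, .fwd 3, .bwd 2, .bwd 3, .fwd 0] [1] (.rel 0)]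

/-- The steps of segment 1, part 2. -/
def ph1_2 : List Aux := [
  .derive 98 [.fwd 0, .bwd 1, .fwd 4, .fwd 2, .bwd 84, .bwd 94, .bwd 93] [2] (.rel 6), .derive 98 [.bwd 2, .bwd 152, .edge 4, .edge 0, .edge 4, .fwd 166, .fwd 51] [0] (.rel 12), .derive 98 [.bwd 3, .bwd 41, .bwd 43, .bwd 165, .edge 4, .fwd 171, .fwd 68] [3] (.rel 14), .node 35 5, .node 36 0, .derive 100 [.bwd 0, .bwd 153, .bwd 56, .bwd 58, .bwd 169, .fwd 58, .fwd 56, .fwd 0] [1] (.rel 17), .node 36 2, .derive 101 [.bwd 0, .bwd 58, .bwd 59, .fwd 58, .fwd 0] [1] (.rel 1), .node 36 5, .derive 102 [.bwd 0, .fwd 4, .bwd 3, .bwd 4, .fwd 0] [1] (.rel 86),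
  .node 37 0, .derive 103 [.bwd 0, .bwd 156, .fwd 157, .fwd 17, .bwd 16, .bwd 17, .bwd 157, .fwd 0] [1] (.rel 17), .node 37 2, .node 37 3, .derive 105 [.bwd 0, .fwd 160, .fwd 24, .bwd 23, .bwd 24, .bwd 166, .bwd 160, .fwd 0] [1] (.rel 16), .node 38 2, .derive 106 [.bwd 0, .fwd 158, .bwd 210, .bwd 158, .fwd 0] [1] (.rel 1), .derive 106 [.bwd 1, .bwd 161, .bwd 216, .edge 3, .edge 2, .fwd 212, .fwd 154] [3] (.rel 9), .node 38 5, .derive 107 [.bwd 0, .fwd 161, .fwd 155] [4] (.rel 84),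
  .derive 107 [.bwd 1, .bwd 44, .bwd 46, .fwd 44, .fwd 1] [1] (.rel 86), .derive 107 [.bwd 2, .bwd 165, .fwd 217, .edge 3, .edge 5, .bwd 201, .bwd 149] [0] (.rel 93), .derive 107 [.bwd 3, .bwd 46, .bwd 49, .bwd 180, .edge 5, .fwd 193, .fwd 96] [3] (.rel 90), .node 39 5, .derive 108 [.bwd 0, .fwd 162, .fwd 142] [4] (.rel 84), .derive 108 [.bwd 1, .bwd 166, .bwd 219, .fwd 166, .fwd 1] [1] (.rel 86), .node 40 0, .node 40 4, .derive 110 [.bwd 0, .bwd 165, .bwd 222, .fwd 165, .fwd 0] [1] (.rel 0), .derive 110 [.bwd 1, .bwd 166, .bwd 171, .bwd 172, .bwd 53, .bwd 55, .fwd 54, .fwd 167, .fwd 149] [0] (.rel 28),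
  .derive 110 [.bwd 2, .bwd 12, .bwd 14, .fwd 172, .fwd 171, .bwd 169, .fwd 168, .fwd 150, .bwd 0, .bwd 1] [3] (.rel 58), .derive 110 [.fwd 0, .bwd 3, .bwd 168, .fwd 172, .bwd 56, .fwd 55, .fwd 12, .fwd 8, .bwd 105, .fwd 110, .bwd 108] [5] (.rel 119), .node 40 5, .derive 111 [.bwd 0, .fwd 5, .fwd 1] [4] (.rel 84), .derive 111 [.bwd 1, .bwd 16, .bwd 17, .bwd 18, .bwd 58, .fwd 59, .bwd 175, .fwd 170, .bwd 121, .bwd 122] [0] (.rel 116), .derive 111 [.bwd 2, .bwd 172, .fwd 176, .bwd 60, .fwd 59, .fwd 177, .bwd 230, .fwd 228, .bwd 227, .fwd 169, .bwd 134] [3] (.rel 118), .node 41 2, .node 42 2, .node 42 3, .derive 114 [.bwd 0, .bwd 173, .fwd 169, .bwd 17, .fwd 16] [0] (.rel 2),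
  .derive 114 [.bwd 1, .bwd 139, .bwd 4, .fwd 6, .fwd 118, .fwd 165, .fwd 154] [4] (.rel 13), .derive 114 [.bwd 2, .bwd 140, .bwd 141, .bwd 219, .fwd 141, .bwd 139, .fwd 140, .fwd 2] [1] (.rel 16), .derive 114 [.bwd 3, .bwd 176, .bwd 235, .fwd 237, .fwd 183, .bwd 67, .fwd 66, .bwd 185, .fwd 26] [5] (.rel 105), .node 43 0, .derive 115 [.bwd 0, .bwd 176, .fwd 174, .bwd 22, .bwd 23, .fwd 22, .bwd 173, .bwd 174, .fwd 176, .fwd 0] [1] (.rel 49), .node 43 3, .derive 116 [.bwd 0, .bwd 178, .fwd 176, .bwd 175, .bwd 176, .fwd 178, .fwd 0] [1] (.rel 8), .node 43 4, .derive 117 [.bwd 0, .bwd 180, .bwd 240, .fwd 180, .fwd 0] [1] (.rel 0), .node 43 5,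
  .node 44 5, .derive 119 [.bwd 0, .fwd 179, .fwd 153] [4] (.rel 84), .derive 119 [.bwd 1, .bwd 30, .bwd 31, .fwd 30, .fwd 1] [1] (.rel 86), .node 45 2, .derive 120 [.bwd 0, .fwd 179, .bwd 239, .bwd 179, .fwd 0] [1] (.rel 1), .node 46 0, .derive 121 [.bwd 0, .bwd 178, .bwd 228, .bwd 230, .edge 1, .fwd 230, .bwd 229, .fwd 228, .fwd 178, .fwd 0] [1] (.rel 49), .node 46 3, .derive 122 [.bwd 0, .bwd 180, .bwd 230, .bwd 231, .fwd 230, .fwd 180, .fwd 0] [1] (.rel 8), .node 46 4,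
  .derive 123 [.bwd 0, .bwd 182, .bwd 249, .fwd 182, .fwd 0] [1] (.rel 0), .derive 123 [.fwd 0, .bwd 1, .bwd 183, .fwd 251, .fwd 193, .fwd 13, .bwd 12] [2] (.rel 6), .node 46 5, .node 47 3, .derive 125 [.bwd 0, .bwd 34, .bwd 33, .fwd 34, .fwd 0] [0] (.rel 2), .derive 125 [.bwd 1, .bwd 185, .bwd 222, .bwd 221, .fwd 222, .fwd 185, .fwd 1] [1] (.rel 8), .node 47 5, .derive 126 [.bwd 0, .bwd 37, .bwd 38, .fwd 37, .fwd 0] [1] (.rel 86), .derive 126 [.bwd 1, .bwd 38, .fwd 36, .fwd 146, .fwd 192, .bwd 254, .edge 5, .edge 3, .edge 5, .bwd 248, .fwd 170] [3] (.rel 139), .derive 48 [.bwd 187, .bwd 226, .bwd 227, .edge 2, .fwd 257, .fwd 256, .fwd 189, .fwd 2, .fwd 0] [0] (.rel 107),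
  .derive 68 [.bwd 142, .fwd 149, .fwd 147, .fwd 148, .fwd 194, .fwd 255, .bwd 194, .fwd 196, .bwd 197, .bwd 261, .edge 0, .edge 1, .edge 3, .edge 5, .edge 1, .edge 5, .edge 1, .fwd 258, .fwd 188, .fwd 0, .fwd 171, .bwd 1, .bwd 3, .fwd 189, .fwd 3, .bwd 2] [0] (.rel 149), .derive 64 [.bwd 152, .fwd 243, .bwd 262, .edge 0, .edge 5, .fwd 253, .fwd 173, .bwd 1, .bwd 189, .bwd 228, .fwd 93] [0] (.rel 141), .node 48 2, .derive 127 [.bwd 0, .bwd 48, .bwd 47, .fwd 48, .fwd 0] [1] (.rel 1), .node 48 3, .derive 128 [.bwd 0, .fwd 5, .bwd 6, .bwd 7, .bwd 4, .bwd 146, .fwd 4, .fwd 6, .bwd 5, .bwd 192, .fwd 0] [1] (.rel 72), .derive 128 [.bwd 1, .fwd 6, .bwd 7, .bwd 9, .fwd 12, .bwd 11, .bwd 12, .fwd 9, .fwd 7, .bwd 6, .fwd 1] [5] (.rel 142), .node 49 0, .derive 129 [.bwd 0, .bwd 194, .fwd 192, .fwd 191, .bwd 253, .bwd 191, .bwd 190, .bwd 192, .fwd 194, .fwd 0] [1] (.rel 49), .derive 129 [.bwd 1,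 .bwd 195, .bwd 265, .edge 5, .edge 3, .edge 1, .fwd 267, .fwd 197, .fwd 4, .bwd 3] [2] (.rel 113),
  .node 49 3, .node 49 4, .derive 131 [.bwd 0, .bwd 198, .bwd 267, .fwd 198, .fwd 0] [1] (.rel 0), .derive 131 [.bwd 1, .bwd 199, .bwd 208, .bwd 209, .bwd 210, .bwd 272, .fwd 205, .fwd 23, .fwd 21] [0] (.rel 28), .node 49 5, .node 50 2, .derive 133 [.bwd 0, .bwd 45, .bwd 44, .fwd 45, .fwd 0] [1] (.rel 1), .node 50 5, .derive 134 [.bwd 0, .bwd 47, .fwd 45] [4] (.rel 84), .derive 134 [.bwd 1, .fwd 202, .bwd 264, .bwd 202, .fwd 1] [1] (.rel 86),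
  .derive 134 [.bwd 2, .bwd 204, .bwd 215, .bwd 168, .bwd 58, .fwd 60, .bwd 118] [0] (.rel 93), .derive 134 [.bwd 3, .fwd 204, .fwd 180, .bwd 56, .bwd 58, .bwd 73, .bwd 2] [3] (.rel 90), .derive 134 [.bwd 4, .bwd 206, .bwd 278, .edge 5, .edge 3, .fwd 280, .fwd 212, .bwd 62, .bwd 63] [2] (.rel 104), .node 51 2, .derive 135 [.bwd 0, .bwd 205, .bwd 278, .fwd 280, .fwd 210, .fwd 16, .fwd 14] [0] (.rel 5), .derive 135 [.bwd 1, .bwd 206, .bwd 279, .edge 1, .fwd 279, .bwd 278, .fwd 206, .bwd 205, .fwd 1] [1] (.rel 26), .derive 68 [.fwd 25, .fwd 27, .fwd 197, .bwd 26, .fwd 21, .bwd 1, .bwd 2, .bwd 206, .fwd 2] [3] (.rel 42), .node 51 3, .node 51 4, .node 51 5]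

/-- The steps of segment 1, part 3. -/
def ph1_3 : List Aux := [
  .derive 138 [.bwd 0, .bwd 211, .bwd 283, .fwd 211, .fwd 0] [1] (.rel 86), .node 52 0, .derive 139 [.bwd 0, .bwd 211, .fwd 213, .fwd 8, .bwd 6, .bwd 8, .bwd 213, .fwd 211, .fwd 0] [1] (.rel 24), .node 52 2, .derive 140 [.bwd 0, .bwd 213, .bwd 287, .bwd 288, .edge 1, .fwd 288, .fwd 213, .bwd 212, .fwd 0] [1] (.rel 43), .node 52 4, .derive 141 [.bwd 0, .fwd 2, .bwd 1, .bwd 2, .fwd 0] [1] (.rel 0), .node 53 0, .derive 142 [.bwd 0, .bwd 214, .bwd 215, .fwd 217, .bwd 216, .bwd 217, .fwd 215, .fwd 0] [1] (.rel 17), .derive 142 [.bwd 1, .bwd 216, .bwd 292, .bwd 293, .fwd 288, .fwd 209, .fwd 208, .bwd 242, .fwd 71] [4] (.rel 46),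
  .node 53 2, .derive 143 [.bwd 0, .bwd 218, .bwd 294, .fwd 218, .fwd 0] [1] (.rel 1), .derive 143 [.bwd 1, .bwd 219, .bwd 296, .fwd 291, .bwd 290, .fwd 209, .bwd 208] [4] (.rel 7), .node 53 3, .derive 144 [.bwd 0, .bwd 221, .fwd 225, .bwd 224, .bwd 225, .bwd 297, .fwd 221, .fwd 0] [1] (.rel 16), .node 53 5, .derive 145 [.bwd 0, .bwd 223, .fwd 221] [4] (.rel 84), .derive 145 [.bwd 1, .fwd 9, .bwd 8, .bwd 9, .fwd 1] [1] (.rel 86), .node 54 0, .node 54 3,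
  .derive 147 [.bwd 0, .bwd 225, .fwd 229, .bwd 228, .bwd 229, .fwd 225, .fwd 0] [1] (.rel 89), .node 55 3, .derive 148 [.bwd 0, .bwd 226, .bwd 304, .edge 1, .fwd 304, .fwd 226, .fwd 0] [1] (.rel 8), .node 55 5, .derive 149 [.bwd 0, .bwd 206, .bwd 207, .fwd 206, .fwd 0] [1] (.rel 86), .node 56 2, .derive 150 [.bwd 0, .bwd 74, .bwd 73, .fwd 74, .fwd 0] [1] (.rel 1), .derive 150 [.fwd 0, .bwd 1, .bwd 229, .bwd 309, .fwd 313, .bwd 251, .bwd 205, .bwd 206, .fwd 203] [0] (.rel 103), .node 57 2, .node 58 0,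
  .derive 152 [.bwd 0, .bwd 227, .fwd 225, .fwd 222, .bwd 265, .bwd 222, .bwd 223, .bwd 225, .fwd 227, .fwd 0] [1] (.rel 49), .node 58 3, .derive 153 [.bwd 0, .bwd 229, .fwd 227, .bwd 225, .bwd 227, .fwd 229, .fwd 0] [1] (.rel 8), .node 58 5, .node 59 5, .derive 155 [.bwd 0, .fwd 229, .fwd 216] [4] (.rel 84), .derive 155 [.bwd 1, .bwd 231, .bwd 315, .fwd 318, .fwd 238, .bwd 66, .bwd 111] [0] (.rel 93), .node 60 0, .derive 156 [.bwd 0, .bwd 229, .bwd 314, .bwd 318, .bwd 319, .fwd 318, .edge 1, .fwd 314, .fwd 229, .fwd 0] [1] (.rel 49), .derive 156 [.bwd 1, .bwd 230, .bwd 252, .bwd 98, .bwd 100, .bwd 262, .bwd 272, .bwd 273, .bwd 329, .bwd 311, .fwd 220] [2] (.rel 117),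
  .node 60 3, .derive 157 [.bwd 0, .bwd 232, .bwd 317, .edge 1, .fwd 317, .fwd 232, .fwd 0] [1] (.rel 8), .node 60 4, .node 61 2, .derive 159 [.bwd 0, .bwd 233, .bwd 319, .fwd 233, .fwd 0] [1] (.rel 1), .node 61 5, .derive 160 [.bwd 0, .bwd 235, .fwd 232] [4] (.rel 84), .node 62 0, .derive 161 [.bwd 0, .bwd 234, .bwd 323, .fwd 234, .fwd 0] [1] (.rel 87), .derive 161 [.bwd 1, .bwd 235, .bwd 325, .edge 4, .fwd 320, .fwd 221, .fwd 78] [4] (.rel 92),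
  .derive 161 [.bwd 2, .bwd 236, .bwd 326, .bwd 330, .fwd 254, .bwd 232, .bwd 233, .bwd 234, .fwd 231] [3] (.rel 106), .derive 161 [.bwd 3, .bwd 236, .fwd 3, .fwd 1, .bwd 83, .bwd 84, .bwd 121, .bwd 122, .fwd 121, .bwd 179, .bwd 180] [5] (.rel 123), .node 62 3, .derive 162 [.bwd 0, .fwd 5, .fwd 2, .bwd 13, .bwd 14, .fwd 13, .bwd 2, .bwd 5, .fwd 0] [1] (.rel 48), .derive 162 [.bwd 1, .bwd 240, .fwd 245, .fwd 16, .bwd 15, .fwd 14, .bwd 234, .bwd 235, .fwd 326, .fwd 276, .fwd 98] [2] (.rel 121), .derive 162 [.bwd 2, .fwd 7, .bwd 6, .fwd 4, .fwd 83, .bwd 177, .bwd 313, .edge 1, .edge 2, .fwd 343, .fwd 275, .fwd 91] [5] (.rel 131), .node 63 3, .derive 163 [.bwd 0, .bwd 241, .fwd 329, .bwd 346, .bwd 329, .fwd 241, .fwd 0] [1] (.rel 8), .node 63 5, .node 65 2,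
  .derive 165 [.bwd 0, .bwd 239, .fwd 236, .bwd 32, .bwd 34, .bwd 90, .fwd 87] [0] (.rel 5), .node 66 3, .derive 166 [.bwd 0, .bwd 238, .bwd 333, .edge 1, .fwd 333, .fwd 238, .fwd 0] [1] (.rel 8), .node 66 4, .derive 167 [.bwd 0, .bwd 240, .bwd 334, .fwd 240, .fwd 0] [1] (.rel 0), .node 66 5, .node 67 2, .derive 169 [.bwd 0, .bwd 241, .bwd 337, .fwd 241, .fwd 0] [1] (.rel 1), .node 67 5, .derive 170 [.bwd 0, .bwd 243, .fwd 241] [4] (.rel 84),
  .node 69 2, .derive 171 [.bwd 0, .bwd 241, .bwd 340, .edge 0, .edge 1, .edge 0, .fwd 340, .fwd 241, .fwd 0] [1] (.rel 23), .node 69 4, .derive 172 [.bwd 0, .fwd 2, .bwd 1, .bwd 2, .fwd 0] [1] (.rel 0), .derive 172 [.bwd 1, .bwd 244, .bwd 342, .bwd 343, .edge 4, .fwd 337, .fwd 215, .bwd 214] [0] (.rel 18), .derive 172 [.bwd 2, .bwd 245, .bwd 344, .edge 0, .edge 1, .edge 4, .edge 1, .fwd 324, .fwd 170] [3] (.rel 39), .node 69 5, .derive 173 [.bwd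 0, .bwd 247, .bwd 345, .fwd 247, .fwd 0] [1] (.rel 86), .node 70 0, .node 70 3,
  .derive 175 [.bwd 0, .bwd 248, .bwd 349, .edge 2, .fwd 351, .fwd 256, .fwd 18] [2] (.rel 10), .node 70 4, .node 71 0, .derive 177 [.bwd 0, .bwd 249, .fwd 253, .fwd 10, .fwd 8, .bwd 224, .fwd 228] [4] (.rel 11), .derive 177 [.bwd 1, .bwd 249, .bwd 250, .bwd 353, .edge 1, .fwd 353, .fwd 250, .fwd 1] [1] (.rel 17), .node 71 2, .derive 178 [.bwd 0, .bwd 252, .bwd 354, .fwd 252, .fwd 0] [1] (.rel 1), .node 71 5, .derive 179 [.bwd 0, .bwd 254, .fwd 252] [4] (.rel 84), .derive 179 [.bwd 1, .fwd 6, .bwd 4, .bwd 6, .fwd 1] [1] (.rel 86),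
  .node 72 0, .derive 180 [.bwd 0, .bwd 255, .bwd 359, .fwd 255, .fwd 0] [1] (.rel 87), .derive 180 [.bwd 1, .bwd 256, .bwd 361, .edge 0, .edge 2, .bwd 372, .bwd 373, .fwd 296, .fwd 68] [3] (.rel 106), .node 72 2, .derive 181 [.bwd 0, .bwd 5, .bwd 4, .fwd 5, .fwd 0] [1] (.rel 1), .node 72 3, .derive 182 [.bwd 0, .fwd 2, .bwd 1, .bwd 2, .bwd 259, .fwd 5, .fwd 3, .bwd 71, .bwd 3, .bwd 5, .fwd 0] [1] (.rel 83), .node 73 2, .derive 183 [.bwd 0, .bwd 260, .fwd 258, .bwd 257, .bwd 258, .bwd 364, .fwd 260, .bwd 259, .fwd 0] [1] (.rel 26), .node 73 3]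

/-- The steps of segment 1, part 4. -/
def ph1_4 : List Aux := [
  .derive 184 [.bwd 0, .bwd 262, .bwd 366, .bwd 360, .fwd 236, .bwd 235, .bwd 236, .fwd 360, .fwd 262, .fwd 0] [1] (.rel 54), .node 73 4, .derive 185 [.bwd 0, .fwd 4, .bwd 3, .bwd 4, .fwd 0] [1] (.rel 0), .node 73 5, .node 74 0, .derive 187 [.bwd 0, .bwd 265, .fwd 267, .bwd 266, .fwd 5, .bwd 4, .bwd 5, .bwd 267, .fwd 265, .fwd 0] [1] (.rel 51), .node 74 3, .derive 188 [.bwd 0, .bwd 267, .fwd 265, .bwd 264, .bwd 265, .fwd 267, .fwd 0] [1] (.rel 8), .node 74 4, .derive 189 [.bwd 0, .bwd 269, .bwd 375, .fwd 269, .fwd 0] [1] (.rel 0),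
  .node 75 0, .derive 190 [.bwd 0, .bwd 269, .bwd 371, .bwd 372, .edge 2, .fwd 362, .fwd 215, .fwd 213, .bwd 294, .fwd 293, .fwd 89] [5] (.rel 125), .node 75 2, .derive 191 [.bwd 0, .bwd 271, .bwd 379, .fwd 273, .bwd 272, .bwd 273, .fwd 271, .bwd 270, .fwd 0] [1] (.rel 43), .node 75 4, .derive 192 [.bwd 0, .fwd 2, .bwd 1, .bwd 2, .fwd 0] [1] (.rel 0), .derive 192 [.bwd 1, .bwd 274, .bwd 383, .edge 0, .edge 4, .fwd 367, .fwd 212] [3] (.rel 95), .node 75 5, .node 76 0, .derive 194 [.bwd 0, .bwd 274, .fwd 273, .fwd 97, .bwd 96, .bwd 97, .bwd 273, .fwd 0] [1] (.rel 17),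
  .derive 194 [.fwd 0, .bwd 1, .bwd 275, .bwd 276, .fwd 270, .fwd 268, .bwd 198, .fwd 200, .fwd 183] [4] (.rel 29), .node 76 3, .derive 195 [.bwd 0, .bwd 278, .fwd 275, .bwd 274, .bwd 275, .fwd 278, .fwd 0] [1] (.rel 8), .node 76 5, .derive 196 [.bwd 0, .fwd 278, .fwd 100] [4] (.rel 84), .node 77 0, .derive 197 [.bwd 0, .bwd 279, .bwd 391, .fwd 389, .fwd 271] [3] (.rel 3), .derive 197 [.bwd 1, .bwd 279, .fwd 278, .bwd 376, .edge 1, .fwd 376, .bwd 278, .fwd 1] [1] (.rel 17), .derive 197 [.bwd 2, .bwd 280, .bwd 281, .fwd 278, .bwd 241, .bwd 243, .bwd 382, .fwd 248] [4] (.rel 19), .node 77 2,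
  .derive 198 [.bwd 0, .fwd 281, .bwd 378, .bwd 281, .fwd 0] [1] (.rel 1), .node 77 5, .derive 199 [.bwd 0, .fwd 283, .fwd 223] [4] (.rel 84), .node 78 5, .derive 200 [.bwd 0, .bwd 284, .fwd 281] [4] (.rel 84), .node 79 0, .derive 201 [.bwd 0, .bwd 283, .bwd 400, .fwd 283, .fwd 0] [1] (.rel 87), .derive 201 [.bwd 1, .bwd 284, .fwd 290, .fwd 288, .bwd 386, .fwd 384, .fwd 226] [4] (.rel 92), .node 79 2, .node 79 3,
  .derive 203 [.bwd 0, .fwd 4, .bwd 3, .fwd 2, .bwd 229, .bwd 385, .fwd 229, .bwd 2, .bwd 4, .fwd 0] [1] (.rel 54), .derive 203 [.bwd 1, .fwd 5, .fwd 3, .bwd 230, .fwd 227, .bwd 226, .bwd 227, .fwd 387, .fwd 247, .bwd 246] [4] (.rel 65), .node 80 2, .node 80 5, .derive 205 [.bwd 0, .bwd 289, .bwd 406, .fwd 289, .fwd 0] [1] (.rel 86), .node 81 0, .derive 206 [.bwd 0, .bwd 289, .bwd 409, .fwd 411, .bwd 410, .bwd 411, .edge 1, .fwd 409, .fwd 289, .fwd 0] [1] (.rel 49), .node 81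 3, .derive 207 [.bwd 0, .bwd 291, .bwd 411, .edge 1, .fwd 411, .fwd 291, .fwd 0] [1] (.rel 8), .node 81 4,
  .derive 208 [.bwd 0, .bwd 293, .bwd 413, .edge 2, .edge 4, .edge 0, .edge 2, .fwd 424, .fwd 422, .fwd 440, .fwd 382, .fwd 202] [3] (.rel 75), .derive 129 [.bwd 173, .fwd 169, .fwd 167, .bwd 0, .bwd 1, .bwd 294, .bwd 413, .fwd 294, .fwd 5, .bwd 4, .bwd 5, .fwd 3, .bwd 2] [4] (.rel 81), .node 81 5, .node 82 2, .derive 210 [.bwd 0, .bwd 295, .bwd 416, .fwd 295, .fwd 0] [1] (.rel 1), .node 82 5, .derive 211 [.bwd 0, .bwd 297, .fwd 294] [4] (.rel 84), .derive 211 [.bwd 1, .bwd 82, .bwd 83, .fwd 82, .fwd 1] [1] (.rel 86), .node 83 0, .derive 212 [.bwd 0, .bwd 297, .bwd 421, .fwd 297, .fwd 0] [1] (.rel 87),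
  .derive 212 [.bwd 1, .bwd 298, .bwd 423, .edge 4, .fwd 429, .fwd 324, .fwd 69] [4] (.rel 92), .node 83 2, .node 83 3, .derive 214 [.bwd 0, .fwd 4, .bwd 3, .fwd 2, .bwd 72, .bwd 326, .fwd 72, .bwd 2, .bwd 4, .fwd 0] [1] (.rel 54), .node 84 2, .derive 215 [.bwd 0, .bwd 301, .fwd 299, .bwd 298, .bwd 299, .bwd 424, .fwd 301, .bwd 300, .fwd 0] [1] (.rel 26), .node 84 3, .derive 216 [.bwd 0, .bwd 303, .bwd 426, .fwd 427, .fwd 329, .bwd 328, .bwd 329, .bwd 427, .fwd 303, .fwd 0] [1] (.rel 54), .node 84 4, .derive 217 [.bwd 0, .fwd 4, .bwd 3, .bwd 4, .fwd 0] [1] (.rel 0),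
  .derive 217 [.bwd 1, .bwd 306, .fwd 302, .bwd 301, .bwd 302, .fwd 430, .fwd 328, .bwd 327, .fwd 55, .fwd 53] [0] (.rel 66), .node 84 5, .node 85 0, .derive 219 [.bwd 0, .bwd 307, .fwd 309, .bwd 308, .fwd 6, .bwd 5, .bwd 6, .bwd 309, .fwd 307, .fwd 0] [1] (.rel 51), .node 85 3, .derive 220 [.bwd 0, .bwd 309, .fwd 307, .bwd 306, .bwd 307, .fwd 309, .fwd 0] [1] (.rel 8), .node 85 4, .derive 221 [.bwd 0, .bwd 311, .bwd 436, .fwd 311, .fwd 0] [1] (.rel 0), .derive 221 [.fwd 0, .bwd 1, .bwd 312, .fwd 438, .fwd 338, .fwd 69, .bwd 68] [2] (.rel 6), .node 85 5,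
  .node 86 0, .node 86 2, .derive 224 [.bwd 0, .bwd 314, .bwd 441, .fwd 316, .bwd 315, .bwd 316, .fwd 314, .bwd 313, .fwd 0] [1] (.rel 43), .node 86 4, .derive 225 [.bwd 0, .fwd 2, .bwd 1, .bwd 2, .fwd 0] [1] (.rel 0), .node 86 5, .node 87 3, .derive 227 [.bwd 0, .bwd 317, .fwd 444, .bwd 474, .bwd 444, .fwd 317, .fwd 0] [1] (.rel 8), .derive 227 [.bwd 1, .bwd 197, .bwd 200, .bwd 402, .bwd 474, .fwd 472, .fwd 399, .bwd 398, .fwd 194] [5] (.rel 105), .node 88 5,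
  .derive 228 [.bwd 0, .bwd 317, .fwd 312] [4] (.rel 84), .derive 228 [.bwd 1, .fwd 315, .bwd 434, .bwd 315, .fwd 1] [1] (.rel 86), .derive 228 [.bwd 2, .bwd 315, .bwd 319, .fwd 449, .fwd 410, .fwd 222, .bwd 240] [0] (.rel 93), .node 89 2, .derive 229 [.bwd 0, .bwd 3, .bwd 2, .fwd 3, .fwd 0] [1] (.rel 1), .derive 229 [.bwd 1, .bwd 223, .bwd 155, .bwd 157, .bwd 386, .bwd 408, .fwd 209] [0] (.rel 5), .node 89 3, .derive 230 [.bwd 0, .bwd 225, .bwd 146, .bwd 149, .fwd 144] [0] (.rel 2), .derive 230 [.bwd 1, .bwd 7, .fwd 5, .bwd 245, .bwd 5, .bwd 6, .fwd 7, .fwd 1] [1] (.rel 16), .derive 230 [.bwd 2, .bwd 8, .bwd 7, .fwd 6, .fwd 247, .bwd 229, .bwd 416, .fwd 224] [4] (.rel 22)]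

/-- The steps of segment 1, part 5. -/
def ph1_5 : List Aux := [
  .node 90 2, .derive 231 [.bwd 0, .bwd 72, .bwd 73, .fwd 72, .fwd 0] [1] (.rel 1), .node 90 5, .node 91 0, .derive 233 [.bwd 0, .bwd 321, .bwd 459, .edge 0, .edge 1, .edge 0, .edge 1, .fwd 459, .fwd 321, .fwd 0] [1] (.rel 49), .node 91 3, .derive 234 [.bwd 0, .bwd 323, .bwd 461, .edge 1, .fwd 461, .fwd 323, .fwd 0] [1] (.rel 8), .derive 234 [.bwd 1, .bwd 324, .bwd 462, .edge 2, .fwd 483, .fwd 398, .fwd 166] [2] (.rel 10), .node 91 4, .derive 235 [.bwd 0, .bwd 326, .bwd 463, .fwd 326, .fwd 0] [1] (.rel 0),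
  .node 91 5, .node 92 0, .derive 237 [.bwd 0, .fwd 325, .bwd 310, .fwd 309, .fwd 129] [3] (.rel 3), .derive 237 [.bwd 1, .bwd 328, .fwd 333, .bwd 84, .bwd 87, .fwd 364, .fwd 308] [4] (.rel 11), .node 92 2, .derive 238 [.bwd 0, .bwd 330, .bwd 469, .fwd 330, .fwd 0] [1] (.rel 1), .node 92 5, .derive 239 [.bwd 0, .bwd 332, .fwd 329] [4] (.rel 84), .node 93 0, .derive 240 [.bwd 0, .bwd 331, .bwd 473, .fwd 331, .fwd 0] [1] (.rel 87),
  .derive 240 [.bwd 1, .bwd 332, .bwd 475, .edge 0, .edge 2, .fwd 494, .bwd 493, .fwd 404, .fwd 161] [3] (.rel 106), .node 93 2, .node 93 3, .node 94 2, .derive 243 [.bwd 0, .bwd 334, .fwd 332, .bwd 331, .bwd 332, .bwd 476, .fwd 334, .bwd 333, .fwd 0] [1] (.rel 26), .node 94 3, .node 94 4, .derive 245 [.bwd 0, .bwd 337, .bwd 473, .fwd 316, .bwd 89, .bwd 91, .bwd 92] [0] (.rel 12), .node 95 4, .derive 246 [.bwd 0, .bwd 337, .bwd 481, .fwd 337, .fwd 0] [1] (.rel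 0),
  .node 95 5, .node 96 0, .derive 248 [.bwd 0, .bwd 338, .bwd 478, .bwd 479, .edge 2, .fwd 497, .fwd 388, .fwd 386, .bwd 435, .bwd 414, .fwd 175] [5] (.rel 125), .node 96 2, .node 96 5, .node 97 0, .derive 251 [.bwd 0, .bwd 340, .bwd 487, .edge 2, .fwd 501, .fwd 392, .fwd 117] [2] (.rel 4), .derive 251 [.bwd 1, .bwd 340, .fwd 339, .fwd 180, .bwd 179, .bwd 180, .bwd 339, .fwd 1] [1] (.rel 17), .node 97 3, .derive 252 [.bwd 0, .bwd 343, .bwd 378, .bwd 379, .fwd 378, .fwd 343, .fwd 0] [1] (.rel 8),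
  .node 97 5, .node 98 5, .derive 254 [.bwd 0, .bwd 343, .fwd 338] [4] (.rel 84), .derive 254 [.bwd 1, .fwd 341, .bwd 392, .bwd 341, .fwd 1] [1] (.rel 86), .derive 254 [.bwd 2, .fwd 341, .bwd 410, .bwd 513, .fwd 511, .fwd 406, .fwd 142] [0] (.rel 93), .derive 254 [.bwd 3, .fwd 343, .bwd 395, .bwd 510, .fwd 506, .fwd 377, .fwd 61] [3] (.rel 90), .node 99 2, .node 100 2, .node 100 5, .derive 257 [.bwd 0, .bwd 344, .bwd 497, .fwd 344, .fwd 0] [1] (.rel 86),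
  .node 101 0, .node 101 3, .derive 259 [.bwd 0, .bwd 345, .bwd 501, .edge 1, .fwd 501, .fwd 345, .fwd 0] [1] (.rel 8), .derive 259 [.bwd 1, .bwd 346, .bwd 502, .edge 2, .fwd 516, .fwd 396, .fwd 105] [2] (.rel 10), .node 101 4, .derive 260 [.bwd 0, .bwd 348, .bwd 504, .edge 2, .edge 4, .edge 0, .edge 2, .bwd 535, .bwd 537, .fwd 534, .fwd 452, .bwd 242] [3] (.rel 75), .node 101 5, .node 102 0, .derive 262 [.bwd 0, .bwd 349, .bwd 506, .fwd 349, .fwd 0] [1] (.rel 87), .derive 262 [.bwd 1, .bwd 350, .bwd 508, .edge 4, .fwd 514, .fwd 371, .fwd 40] [4] (.rel 92),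
  .node 102 3, .node 103 3, .node 103 5, .node 104 3, .derive 266 [.bwd 0, .bwd 351, .fwd 350, .bwd 349, .bwd 350, .fwd 351, .fwd 0] [1] (.rel 8), .node 104 4, .derive 267 [.bwd 0, .bwd 353, .bwd 511, .fwd 353, .fwd 0] [1] (.rel 0), .derive 267 [.fwd 0, .bwd 1, .bwd 354, .fwd 513, .fwd 375, .fwd 38, .bwd 37] [2] (.rel 6), .node 105 0, .node 105 2,
  .node 105 4, .derive 270 [.bwd 0, .bwd 357, .fwd 517, .fwd 377, .bwd 129, .bwd 131, .bwd 136] [3] (.rel 14), .node 105 5, .node 106 0, .derive 272 [.bwd 0, .bwd 358, .bwd 398, .fwd 399, .bwd 515, .fwd 511, .fwd 347] [2] (.rel 4), .derive 272 [.bwd 1, .bwd 286, .fwd 284, .fwd 403, .bwd 345, .bwd 347, .fwd 348] [4] (.rel 11), .derive 272 [.bwd 2, .bwd 359, .bwd 287, .bwd 284, .bwd 286, .bwd 284, .fwd 287, .fwd 2] [1] (.rel 17), .node 107 2, .derive 273 [.bwd 0, .fwd 358, .bwd 513, .bwd 358, .fwd 0] [1] (.rel 1), .derive 273 [.bwd 1, .fwd 357,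 .bwd 427, .bwd 377, .fwd 378, .fwd 471, .fwd 342] [0] (.rel 5),
  .derive 273 [.bwd 2, .fwd 360, .fwd 343, .bwd 159, .bwd 160, .bwd 43, .bwd 42] [4] (.rel 7), .node 108 2, .derive 274 [.bwd 0, .fwd 357, .bwd 499, .bwd 357, .fwd 0] [1] (.rel 1), .node 108 3, .derive 275 [.bwd 0, .fwd 359, .fwd 314, .bwd 485, .bwd 314, .bwd 501, .bwd 359, .fwd 0] [1] (.rel 16), .node 109 3, .derive 276 [.bwd 0, .bwd 10, .bwd 12, .bwd 369, .fwd 12, .bwd 9, .fwd 10, .fwd 0] [1] (.rel 16), .derive 276 [.bwd 1, .bwd 11, .bwd 10, .bwd 13, .bwd 298, .fwd 296, .bwd 416, .fwd 100] [4] (.rel 22), .derive 276 [.bwd 2, .bwd 13, .fwd 12, .bwd 361, .bwd 525, .fwd 529, .bwd 528, .fwd 526, .fwd 508, .bwd 416, .fwd 101, .bwd 0] [2] (.rel 77), .node 109 5,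
  .derive 277 [.bwd 0, .fwd 4, .fwd 2, .bwd 103, .bwd 238, .bwd 242, .bwd 243] [0] (.rel 93), .derive 277 [.bwd 1, .bwd 364, .fwd 363, .fwd 361, .fwd 324, .fwd 322, .bwd 339] [3] (.rel 90), .node 111 2, .derive 278 [.bwd 0, .fwd 359, .bwd 470, .bwd 359, .fwd 0] [1] (.rel 1), .derive 278 [.fwd 0, .bwd 1, .fwd 360, .fwd 234, .fwd 233, .bwd 321, .bwd 369, .bwd 368, .fwd 12] [0] (.rel 40), .node 112 3, .derive 279 [.bwd 0, .bwd 359, .bwd 483, .bwd 484, .fwd 483, .fwd 359, .fwd 0] [1] (.rel 8), .derive 279 [.bwd 1, .bwd 176, .bwd 177, .bwd 178, .fwd 451, .bwd 479, .bwd 480, .fwd 240] [4] (.rel 22), .node 112 5, .node 113 0]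

/-- The steps of segment 1, part 6. -/
def ph1_6 : List Aux := [
  .derive 281 [.bwd 0, .bwd 362, .bwd 534, .bwd 593, .fwd 595, .bwd 594, .fwd 541, .fwd 376, .fwd 16, .bwd 15] [2] (.rel 113), .node 113 3, .derive 282 [.bwd 0, .bwd 292, .bwd 293, .bwd 294, .bwd 509, .fwd 513, .bwd 512, .fwd 304] [4] (.rel 22), .node 113 5, .node 114 2, .node 115 2, .derive 285 [.bwd 0, .bwd 362, .bwd 538, .fwd 540, .fwd 368, .fwd 6, .fwd 5] [0] (.rel 5), .derive 285 [.bwd 1, .bwd 363, .bwd 539, .bwd 599, .fwd 539, .bwd 538, .fwd 363, .bwd 362, .fwd 1] [1] (.rel 26), .derive 285 [.bwd 2, .bwd 364, .fwd 360, .bwd 346, .bwd 348, .bwd 529, .fwd 352, .bwd 351, .bwd 253] [4] (.rel 32), .derive 170 [.fwd 239, .fwd 312, .fwd 313, .fwd 314, .bwd 109, .fwd 111, .bwd 0, .bwd 3, .bwd 364, .fwd 3] [3] (.rel 68),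
  .node 115 3, .derive 286 [.bwd 0, .bwd 367, .bwd 543, .fwd 541, .fwd 539, .bwd 593, .fwd 597, .fwd 527, .fwd 330] [4] (.rel 44), .node 116 0, .derive 287 [.bwd 0, .bwd 366, .bwd 367, .fwd 365, .bwd 162, .bwd 163, .bwd 455, .fwd 167] [4] (.rel 19), .derive 287 [.bwd 1, .bwd 368, .fwd 370, .fwd 8, .bwd 6, .bwd 8, .bwd 370, .fwd 368, .fwd 1] [1] (.rel 24), .node 116 2, .derive 288 [.bwd 0, .bwd 370, .bwd 548, .fwd 546, .bwd 464, .bwd 429, .fwd 101] [3] (.rel 9), .derive 288 [.bwd 1, .fwd 4, .bwd 2, .fwd 3, .bwd 170, .bwd 3, .bwd 4, .bwd 370, .fwd 1] [1] (.rel 41), .node 116 4, .derive 289 [.bwd 0, .fwd 3, .bwd 1, .bwd 3, .fwd 0] [1] (.rel 0),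
  .derive 289 [.bwd 1, .bwd 374, .fwd 372, .bwd 169, .bwd 170, .fwd 172, .bwd 168] [3] (.rel 14), .derive 289 [.bwd 2, .bwd 375, .bwd 552, .fwd 373, .bwd 372, .bwd 170, .bwd 171, .bwd 464, .bwd 584, .edge 4, .fwd 590, .fwd 491, .fwd 250] [0] (.rel 73), .node 116 5, .derive 290 [.bwd 0, .fwd 10, .bwd 8, .bwd 10, .fwd 0] [1] (.rel 86), .node 117 5, .derive 291 [.bwd 0, .bwd 377, .fwd 375] [4] (.rel 84), .node 120 0, .derive 292 [.bwd 0, .bwd 373, .bwd 554, .fwd 549, .fwd 371, .bwd 272, .bwd 129] [2] (.rel 4), .derive 292 [.fwd 0, .fwd 129, .bwd 0, .bwd 1, .bwd 374, .bwd 554, .fwd 374, .bwd 373, .fwd 1] [1] (.rel 25), .derive 292 [.fwd 0, .bwd 2, .bwd 374, .bwd 375, .fwd 554, .fwd 545, .fwd 351, .fwd 177, .bwd 75] [4] (.rel 29),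
  .node 120 3, .node 120 4, .derive 294 [.bwd 0, .bwd 378, .bwd 558, .fwd 378, .fwd 0] [1] (.rel 0), .derive 294 [.fwd 0, .bwd 1, .bwd 379, .fwd 558, .fwd 549, .fwd 351, .bwd 350] [2] (.rel 6), .derive 294 [.bwd 2, .bwd 380, .fwd 559, .bwd 619, .bwd 620, .edge 1, .fwd 618, .fwd 541, .fwd 323] [0] (.rel 28), .node 121 3, .node 122 0, .derive 296 [.bwd 0, .bwd 379, .fwd 381, .bwd 282, .bwd 283, .fwd 282, .bwd 381, .fwd 379, .fwd 0] [1] (.rel 24), .node 122 4, .node 123 0,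
  .derive 298 [.bwd 0, .fwd 378, .bwd 356, .bwd 6, .fwd 5, .bwd 329, .fwd 332] [2] (.rel 4), .derive 298 [.bwd 1, .bwd 380, .bwd 381, .fwd 383, .bwd 382, .bwd 383, .fwd 381, .fwd 1] [1] (.rel 17), .derive 298 [.fwd 0, .bwd 2, .bwd 381, .fwd 380, .bwd 394, .bwd 574, .fwd 576, .bwd 541, .fwd 313] [4] (.rel 29), .node 123 3, .node 123 5, .derive 300 [.bwd 0, .bwd 385, .fwd 382] [4] (.rel 84), .derive 300 [.bwd 1, .fwd 6, .bwd 4, .bwd 6, .fwd 1] [1] (.rel 86), .node 124 0, .node 125 2, .derive 302 [.bwd 0, .bwd 384, .bwd 385, .bwd 419, .bwd 420, .fwd 419, .fwd 385, .bwd 384, .fwd 0] [1] (.rel 23),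
  .node 125 4, .derive 303 [.bwd 0, .bwd 387, .bwd 479, .fwd 164, .bwd 63, .bwd 65, .bwd 75] [3] (.rel 14), .derive 303 [.bwd 1, .bwd 387, .bwd 386, .bwd 388, .bwd 480, .fwd 165, .bwd 64, .bwd 65] [0] (.rel 18), .derive 303 [.bwd 2, .bwd 389, .bwd 481, .bwd 483, .fwd 610, .fwd 573, .bwd 481, .bwd 362, .fwd 360, .fwd 423, .fwd 389, .fwd 2] [2] (.rel 78), .derive 302 [.bwd 5, .fwd 3, .fwd 2, .fwd 79, .fwd 68, .fwd 67, .fwd 65, .fwd 67, .bwd 68, .bwd 79, .bwd 2, .bwd 3, .fwd 5] [4] (.rel 82), .derive 303 [.bwd 4, .bwd 299, .bwd 46] [5] (.rel 85), .node 127 3, .derive 304 [.bwd 0, .bwd 296, .bwd 297, .fwd 535, .fwd 582, .fwd 571, .fwd 570, .fwd 548, .fwd 316] [4] (.rel 44), .node 127 4, .derive 305 [.bwd 0, .bwd 386, .bwd 576, .fwd 386, .fwd 0] [1] (.rel 0),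
  .node 129 5, .node 130 0, .derive 307 [.bwd 0, .bwd 381, .fwd 384, .bwd 41, .fwd 40] [3] (.rel 3), .node 130 5, .node 132 3, .node 133 4, .derive 310 [.bwd 0, .bwd 379, .bwd 380, .bwd 425, .fwd 426, .bwd 540, .bwd 636, .fwd 542, .fwd 302] [0] (.rel 47), .node 135 4, .derive 311 [.bwd 0, .bwd 374, .bwd 578, .fwd 374, .fwd 0] [1] (.rel 0), .derive 311 [.bwd 1, .bwd 372, .bwd 299, .fwd 59, .fwd 60, .bwd 316, .bwd 322] [3] (.rel 14),
  .derive 311 [.bwd 2, .bwd 376, .bwd 581, .fwd 577, .fwd 359, .fwd 357, .bwd 566, .fwd 340, .bwd 339] [2] (.rel 31), .derive 311 [.bwd 3, .bwd 182, .bwd 83] [5] (.rel 85), .node 136 5, .derive 312 [.bwd 0, .bwd 375, .bwd 584, .bwd 657, .fwd 659, .bwd 658, .fwd 589, .fwd 388, .fwd 8] [0] (.rel 107), .node 137 2, .derive 313 [.bwd 0, .bwd 376, .bwd 585, .fwd 376, .fwd 0] [1] (.rel 1), .derive 313 [.bwd 1, .bwd 377, .fwd 382, .fwd 8, .bwd 7, .fwd 5, .bwd 345]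 [4] (.rel 7), .derive 313 [.fwd 1, .bwd 2, .bwd 378, .fwd 383, .fwd 382, .bwd 177, .bwd 49, .fwd 47, .bwd 124] [0] (.rel 30), .node 137 5, .derive 314 [.bwd 0, .bwd 380, .fwd 379] [4] (.rel 84),
  .node 138 0, .node 138 2, .node 138 3, .derive 317 [.bwd 0, .bwd 3, .bwd 4, .fwd 8, .fwd 5, .fwd 129, .bwd 231, .bwd 404, .bwd 405, .fwd 402, .fwd 19] [0] (.rel 126), .node 139 2, .derive 318 [.bwd 0, .bwd 383, .bwd 594, .fwd 596, .bwd 595, .bwd 596, .fwd 594, .fwd 383, .fwd 0] [1] (.rel 23), .derive 318 [.bwd 1, .bwd 384, .bwd 595, .fwd 597, .fwd 392, .fwd 18, .fwd 16, .bwd 95, .fwd 94, .fwd 434, .fwd 360, .fwd 358, .fwd 324] [0] (.rel 79), .node 140 0, .node 140 3, .derive 320 [.bwd 0, .bwd 385, .bwd 598, .bwd 673, .fwd 671, .fwd 593, .fwd 367] [2] (.rel 10),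
  .node 140 4, .node 141 0, .derive 322 [.bwd 0, .bwd 385, .bwd 386, .bwd 601, .bwd 675, .fwd 601, .fwd 386, .fwd 0] [1] (.rel 17), .node 142 5, .derive 323 [.bwd 0, .fwd 384, .fwd 90] [4] (.rel 84), .derive 323 [.bwd 1, .bwd 387, .bwd 601, .fwd 387, .fwd 1] [1] (.rel 86), .node 143 5, .derive 324 [.bwd 0, .fwd 384, .fwd 363] [4] (.rel 84), .node 144 0, .derive 325 [.bwd 0, .bwd 384, .bwd 385, .bwd 606, .fwd 608, .fwd 393, .bwd 392, .fwd 7] [4] (.rel 19)]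

/-- The steps of segment 1, part 7. -/
def ph1_7 : List Aux := [
  .derive 325 [.bwd 1, .bwd 386, .fwd 392, .bwd 59, .bwd 58, .fwd 59, .bwd 392, .fwd 386, .fwd 1] [1] (.rel 24), .node 144 2, .derive 326 [.bwd 0, .fwd 3, .bwd 1, .fwd 2, .bwd 9, .bwd 2, .bwd 3, .bwd 387, .fwd 0] [1] (.rel 41), .derive 326 [.bwd 1, .bwd 389, .bwd 610, .fwd 612, .fwd 401, .bwd 400, .fwd 18, .bwd 17, .fwd 16, .bwd 341, .fwd 339] [3] (.rel 70), .node 144 4, .node 145 0, .node 145 3, .node 146 3, .derive 330 [.bwd 0, .bwd 389, .bwd 613, .fwd 617, .fwd 406, .fwd 23, .fwd 21, .bwd 345, .bwd 327] [5] (.rel 105), .node 146 5,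
  .node 147 0, .derive 332 [.bwd 0, .bwd 391, .bwd 394, .bwd 395, .fwd 400, .bwd 76, .fwd 77, .bwd 429, .bwd 626, .fwd 433, .bwd 90] [5] (.rel 125), .derive 332 [.bwd 1, .bwd 392, .bwd 617, .bwd 696, .fwd 694, .bwd 640, .bwd 642, .fwd 644, .fwd 466, .fwd 89, .bwd 88] [4] (.rel 127), .derive 315 [.bwd 32, .fwd 30, .fwd 29, .bwd 49, .fwd 51, .fwd 50, .bwd 91, .bwd 1, .bwd 2, .bwd 393, .fwd 394, .fwd 3] [] (.rel 137), .derive 331 [.bwd 0] [] (.free), .derive 315 [.bwd 0, .bwd 5] [5] (.free), .node 147 4, .node 147 5, .node 148 0, .node 148 4,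
  .derive 336 [.bwd 0, .bwd 398, .bwd 574, .bwd 575, .fwd 301, .fwd 299, .bwd 140, .bwd 141] [3] (.rel 21), .node 149 0, .derive 337 [.bwd 0, .bwd 329, .bwd 331, .fwd 328, .bwd 327, .bwd 328, .fwd 331, .fwd 329, .fwd 0] [1] (.rel 24), .node 150 4, .node 151 0, .derive 339 [.bwd 0, .bwd 396, .bwd 489, .fwd 491, .fwd 603, .bwd 652, .fwd 647, .fwd 467, .fwd 86] [3] (.rel 45), .node 151 3, .derive 340 [.bwd 0, .bwd 84, .bwd 85, .bwd 87, .bwd 467, .fwd 471, .bwd 470, .fwd 91] [4] (.rel 22), .node 152 3, .derive 341 [.bwd 0, .bwd 52, .bwd 53, .fwd 51, .bwd 99, .bwd 102, .bwd 474, .fwd 98] [4] (.rel 22),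
  .node 153 0, .derive 342 [.bwd 0, .bwd 398, .bwd 399, .bwd 418, .bwd 175, .bwd 176, .bwd 523, .fwd 180] [4] (.rel 19), .derive 342 [.bwd 1, .bwd 400, .fwd 402, .bwd 61, .bwd 63, .fwd 61, .bwd 402, .fwd 400, .fwd 1] [1] (.rel 24), .node 153 2, .derive 343 [.bwd 0, .bwd 402, .bwd 631, .fwd 629, .bwd 533, .fwd 531, .fwd 348] [3] (.rel 9), .node 153 4, .derive 344 [.bwd 0, .bwd 404, .bwd 423, .bwd 180, .bwd 181, .fwd 184, .bwd 106] [3] (.rel 14), .derive 344 [.bwd 1, .bwd 405, .bwd 633, .bwd 424, .bwd 425, .bwd 181, .bwd 182, .bwd 530, .bwd 686, .edge 4, .fwd 692, .fwd 557, .fwd 236] [0] (.rel 73), .node 155 2, .derive 345 [.bwd 0, .fwd 402, .fwd 157, .bwd 144, .bwd 146, .fwd 504, .fwd 395] [0] (.rel 5),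
  .node 155 3, .derive 346 [.bwd 0, .fwd 404, .fwd 157, .bwd 134, .bwd 131] [0] (.rel 2), .node 156 4, .derive 347 [.bwd 0, .bwd 405, .bwd 633, .fwd 402, .bwd 85, .bwd 86, .fwd 84, .bwd 83] [0] (.rel 18), .node 157 0, .derive 348 [.bwd 0, .bwd 403, .bwd 87, .bwd 88, .bwd 471, .fwd 88, .fwd 87, .fwd 0] [1] (.rel 17), .derive 348 [.bwd 1, .bwd 405, .fwd 408, .fwd 406, .bwd 410, .fwd 5, .fwd 4, .fwd 136, .fwd 137, .fwd 391, .bwd 490, .fwd 488, .fwd 109] [2] (.rel 80), .node 158 2, .derive 349 [.bwd 0, .bwd 405, .bwd 639, .fwd 637, .bwd 636, .fwd 404, .bwd 403] [4] (.rel 7), .node 158 3,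
  .derive 350 [.bwd 0, .bwd 407, .fwd 409, .fwd 5, .bwd 4, .fwd 3, .bwd 112, .bwd 113, .bwd 492, .fwd 490, .fwd 106] [2] (.rel 71), .node 159 3, .derive 351 [.bwd 0, .bwd 408, .fwd 639, .bwd 688, .bwd 747, .edge 2, .edge 3, .edge 5, .edge 3, .edge 2, .edge 3, .edge 5, .edge 3, .edge 2, .fwd 747, .fwd 688, .bwd 639, .fwd 408, .fwd 0] [5] (.rel 143), .node 163 0, .derive 352 [.bwd 0, .bwd 397, .fwd 636, .fwd 432, .fwd 35] [3] (.rel 3), .derive 186 [.bwd 351, .bwd 617, .fwd 613, .fwd 344, .fwd 343, .fwd 36, .bwd 0, .bwd 1, .bwd 222, .bwd 223, .bwd 561, .fwd 565] [] (.rel 138), .derive 186 [.fwd 0] [] (.free), .derive 245 [.bwd 230, .bwd 0, .bwd 353, .fwd 355] [5] (.rel 85), .derive 201 [.bwd 322, .fwd 604, .bwd 323, .bwd 230, .bwd 231, .bwd 1, .bwd 354, .bwd 619, .bwd 620, .bwd 718, .fwd 594, .fwd 286] [] (.rel 110), .derive 218 [.bwd 0] [] (.free),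
  .derive 201 [.bwd 0, .bwd 288] [5] (.free), .derive 265 [.bwd 198, .fwd 549, .bwd 550, .fwd 707, .fwd 571, .bwd 4, .bwd 357, .bwd 623, .bwd 727, .bwd 721, .fwd 597, .fwd 292] [] (.rel 111), .derive 265 [.fwd 0] [] (.free), .derive 217 [.bwd 0, .bwd 200] [5] (.free), .node 164 0, .node 166 4, .derive 354 [.bwd 0, .bwd 404, .fwd 402, .bwd 401, .bwd 99, .bwd 100, .bwd 270, .bwd 271] [3] (.rel 21), .node 167 2, .derive 355 [.bwd 0, .bwd 404, .bwd 643, .fwd 404, .fwd 0] [1] (.rel 1), .derive 355 [.bwd 1, .bwd 405, .bwd 645, .fwd 643, .bwd 642, .fwd 402, .bwd 401] [4] (.rel 7),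
  .node 167 5, .derive 356 [.bwd 0, .bwd 407, .fwd 405] [4] (.rel 84), .node 169 3, .node 171 4, .derive 358 [.bwd 0, .bwd 152, .bwd 155, .fwd 161, .fwd 160, .bwd 328, .fwd 324] [0] (.rel 12), .node 173 0, .derive 359 [.bwd 0, .bwd 399, .bwd 645, .fwd 399, .fwd 0] [1] (.rel 87), .node 173 3, .derive 360 [.bwd 0, .bwd 401, .bwd 597, .bwd 596, .fwd 597, .fwd 401, .fwd 0] [1] (.rel 89), .node 174 2,
  .node 174 4, .node 175 0, .derive 363 [.bwd 0, .fwd 401, .bwd 95, .bwd 97, .bwd 480, .fwd 478, .fwd 94] [2] (.rel 4), .node 175 4, .node 176 0, .derive 365 [.bwd 0, .bwd 403, .bwd 652, .bwd 653, .fwd 651, .fwd 402, .fwd 401, .bwd 629, .fwd 342] [4] (.rel 46), .node 176 2, .derive 366 [.bwd 0, .bwd 405, .bwd 655, .fwd 653, .bwd 652, .fwd 401, .bwd 400] [4] (.rel 7), .node 176 3, .node 177 5,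
  .derive 368 [.bwd 0, .fwd 406, .fwd 346] [4] (.rel 84), .node 179 3, .derive 369 [.bwd 0, .fwd 403, .bwd 655, .fwd 401, .bwd 331, .bwd 333, .bwd 629, .fwd 329] [4] (.rel 22), .node 180 2, .derive 370 [.bwd 0, .bwd 403, .bwd 658, .bwd 763, .edge 1, .edge 0, .fwd 747, .fwd 600, .bwd 599, .fwd 260] [0] (.rel 114), .node 180 5, .node 181 0, .derive 372 [.bwd 0, .bwd 403, .fwd 406, .fwd 3, .fwd 2, .bwd 263, .fwd 265] [2] (.rel 4), .node 181 4, .node 182 0]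

/-- The steps of segment 1, part 8. -/
def ph1_8 : List Aux := [
  .node 182 2, .node 182 4, .derive 376 [.bwd 0, .bwd 406, .bwd 413, .fwd 10, .fwd 9, .bwd 339, .bwd 345] [3] (.rel 14), .node 182 5, .node 183 0, .derive 378 [.bwd 0, .bwd 407, .bwd 667, .bwd 772, .fwd 774, .bwd 773, .fwd 675, .fwd 428, .fwd 27, .bwd 26] [2] (.rel 113), .derive 371 [.bwd 10, .fwd 414, .fwd 12, .fwd 11, .bwd 272, .bwd 612, .fwd 616, .fwd 279, .fwd 48, .bwd 404, .fwd 408, .fwd 1, .fwd 0, .bwd 27, .bwd 28, .fwd 30] [] (.rel 136), .derive 371 [.fwd 0] [] (.free), .derive 359 [.bwd 0, .bwd 12] [5] (.free), .node 183 3,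
  .node 183 4, .node 184 0, .derive 381 [.bwd 0, .bwd 412, .bwd 674, .fwd 670, .fwd 401] [3] (.rel 3), .node 184 4, .derive 382 [.bwd 0, .bwd 414, .fwd 412, .bwd 411, .bwd 269, .fwd 271, .bwd 343, .bwd 344] [3] (.rel 21), .node 184 5, .derive 383 [.bwd 0, .bwd 416, .bwd 678, .bwd 783, .fwd 785, .fwd 686, .fwd 445, .bwd 194, .bwd 196] [2] (.rel 104), .node 185 2, .node 185 3, .derive 385 [.bwd 0, .bwd 417, .fwd 419, .fwd 5, .fwd 4, .bwd 350, .fwd 352] [4] (.rel 13),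
  .node 187 2, .derive 386 [.bwd 0, .bwd 416, .bwd 681, .fwd 683, .fwd 423, .fwd 16, .fwd 15] [0] (.rel 5), .derive 386 [.bwd 1, .bwd 417, .bwd 682, .bwd 788, .fwd 682, .bwd 681, .fwd 417, .bwd 416, .fwd 1] [1] (.rel 26), .node 187 4, .derive 387 [.bwd 0, .fwd 3, .bwd 1, .bwd 3, .fwd 0] [1] (.rel 0), .node 189 0, .derive 388 [.bwd 0, .bwd 416, .bwd 417, .fwd 419, .bwd 418, .bwd 419, .fwd 417, .fwd 0] [1] (.rel 17), .node 190 2, .derive 389 [.bwd 0, .bwd 417, .bwd 686, .fwd 690, .bwd 689, .bwd 690, .fwd 686, .fwd 417, .fwd 0] [1] (.rel 23), .derive 389 [.fwd 0, .bwd 1, .fwd 417, .bwd 507, .bwd 711, .fwd 470, .bwd 308, .bwd 310, .fwd 307] [0] (.rel 103),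
  .node 190 4, .derive 390 [.bwd 0, .bwd 420, .bwd 688, .bwd 689, .bwd 791, .fwd 663, .fwd 347, .bwd 346] [0] (.rel 18), .node 191 0, .derive 391 [.bwd 0, .bwd 420, .fwd 422, .fwd 5, .fwd 3, .bwd 311, .fwd 314] [2] (.rel 4), .node 192 0, .derive 392 [.bwd 0, .bwd 420, .fwd 424, .fwd 4, .fwd 3, .bwd 351, .fwd 354] [4] (.rel 11), .derive 392 [.bwd 1, .bwd 421, .fwd 425, .fwd 424, .bwd 514, .bwd 690, .fwd 414] [5] (.rel 91), .node 192 2, .node 192 5, .derive 394 [.bwd 0, .bwd 424, .fwd 421] [4] (.rel 84),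
  .node 193 0, .node 193 3, .node 194 3, .derive 397 [.bwd 0, .fwd 422, .fwd 247, .fwd 245, .bwd 486, .bwd 645, .fwd 304] [4] (.rel 13), .derive 397 [.bwd 1, .bwd 307, .bwd 263, .fwd 264, .bwd 607, .bwd 736, .bwd 739, .bwd 823, .fwd 828, .fwd 751, .fwd 530, .fwd 139] [2] (.rel 77), .derive 397 [.bwd 2, .bwd 426, .bwd 701, .bwd 810, .edge 1, .edge 2, .fwd 792, .fwd 631, .fwd 276] [5] (.rel 102), .node 194 5, .derive 398 [.bwd 0, .fwd 426, .fwd 248] [4] (.rel 84), .derive 398 [.bwd 1, .bwd 429, .fwd 702, .bwd 730, .fwd 489, .bwd 327, .bwd 288] [3] (.rel 90), .node 195 2,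
  .derive 399 [.bwd 0, .bwd 428, .bwd 706, .fwd 700, .bwd 648, .fwd 649, .fwd 742, .bwd 737, .bwd 739, .fwd 741, .fwd 507, .fwd 100] [4] (.rel 76), .derive 399 [.bwd 1, .bwd 428, .bwd 429, .fwd 705, .bwd 755, .fwd 831, .edge 5, .edge 3, .edge 2, .edge 0, .edge 2, .edge 3, .edge 1, .fwd 809, .fwd 808, .fwd 769, .fwd 578, .fwd 192] [3] (.rel 134), .node 195 4, .derive 400 [.bwd 0, .bwd 431, .fwd 707, .fwd 531, .fwd 133, .fwd 132, .fwd 272] [3] (.rel 14), .derive 400 [.bwd 1, .bwd 17, .fwd 18] [5] (.rel 85), .node 196 3, .derive 401 [.bwd 0, .fwd 431, .fwd 134, .bwd 133, .bwd 134, .bwd 531, .bwd 431, .fwd 0] [1] (.rel 16), .derive 401 [.fwd 0, .bwd 1, .fwd 432, .bwd 464, .bwd 396, .bwd 397, .bwd 398, .bwd 400] [0] (.rel 20), .node 197 5, .derive 402 [.bwd 0, .fwd 430, .fwd 356] [4] (.rel 84),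
  .node 198 3, .derive 403 [.bwd 0, .bwd 431, .bwd 714, .fwd 717, .fwd 439, .fwd 11, .fwd 9] [2] (.rel 10), .derive 403 [.bwd 1, .bwd 431, .fwd 1, .fwd 0, .bwd 203, .bwd 501, .bwd 502, .bwd 628, .fwd 269, .fwd 267] [4] (.rel 64), .node 198 4, .derive 404 [.bwd 0, .fwd 3, .fwd 1, .bwd 282, .fwd 639, .fwd 594, .fwd 538, .fwd 536, .fwd 500, .fwd 96] [3] (.rel 61), .node 199 3, .derive 405 [.bwd 0, .fwd 433, .bwd 656, .fwd 308, .fwd 306, .bwd 347, .bwd 677, .fwd 343] [4] (.rel 22), .node 201 3, .derive 406 [.bwd 0, .fwd 430, .bwd 656, .bwd 657, .fwd 814, .fwd 678, .bwd 677, .fwd 342] [4] (.rel 22), .node 202 4,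
  .node 203 0, .derive 408 [.bwd 0, .bwd 430, .fwd 429, .bwd 677, .bwd 823, .fwd 677, .bwd 429, .fwd 0] [1] (.rel 17), .derive 408 [.bwd 1, .bwd 431, .bwd 432, .bwd 437, .bwd 300, .bwd 301, .bwd 657, .fwd 303] [4] (.rel 19), .derive 252 [.fwd 333, .bwd 29, .fwd 27, .bwd 0, .bwd 2, .bwd 432, .fwd 2] [5] (.rel 88), .node 203 2, .node 203 5, .derive 410 [.bwd 0, .fwd 434, .fwd 341] [4] (.rel 84), .node 204 0, .derive 411 [.bwd 0, .bwd 435, .bwd 451, .fwd 449, .fwd 697, .bwd 748, .fwd 746, .fwd 498, .fwd 94] [3] (.rel 45), .derive 411 [.bwd 1, .bwd 436, .bwd 452, .bwd 453, .bwd 731, .fwd 453, .bwd 451, .fwd 452, .fwd 436, .fwd 1] [1] (.rel 49),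
  .node 205 0, .derive 412 [.bwd 0, .bwd 437, .bwd 725, .fwd 437, .fwd 0] [1] (.rel 87), .derive 412 [.bwd 1, .bwd 438, .bwd 455, .fwd 453, .fwd 701, .fwd 505, .fwd 106] [4] (.rel 92), .derive 412 [.bwd 2, .bwd 438, .fwd 2, .fwd 0, .bwd 106, .fwd 74, .bwd 492, .bwd 746, .fwd 492, .bwd 422, .bwd 423] [5] (.rel 123), .node 205 3, .derive 413 [.bwd 0, .fwd 4, .bwd 3, .fwd 2, .bwd 109, .bwd 507, .fwd 109, .bwd 2, .bwd 4, .fwd 0] [1] (.rel 54), .node 206 2, .node 206 3, .derive 415 [.bwd 0, .bwd 274, .bwd 273, .bwd 275, .fwd 269, .fwd 266, .bwd 516, .bwd 225] [4] (.rel 22), .node 207 5,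
  .derive 416 [.bwd 0, .bwd 438, .fwd 229] [4] (.rel 84), .node 208 2, .derive 417 [.bwd 0, .bwd 442, .bwd 734, .fwd 442, .fwd 0] [1] (.rel 1), .derive 417 [.bwd 1, .bwd 443, .bwd 736, .fwd 734, .bwd 733, .fwd 439, .bwd 438] [4] (.rel 7), .derive 417 [.bwd 2, .fwd 443, .bwd 632, .fwd 250, .bwd 143, .bwd 144, .fwd 146] [3] (.rel 9), .derive 417 [.fwd 2, .bwd 3, .bwd 445, .bwd 738, .bwd 858, .edge 4, .edge 1, .edge 2, .edge 5, .edge 1, .edge 2, .edge 4, .edge 2, .edge 3, .bwd 891, .bwd 893, .bwd 894, .edge 5, .edge 1, .edge 2, .edge 4, .edge 2, .edge 3, .edge 4, .edge 1, .edge 2, .edge 5, .edge 1, .fwd 894, .fwd 891, .edge 2, .edge 3, .edge 4, .edge 1, .edge 2, .edge 5, .edge 1, .edge 2, .edge 4, .edge 2, .fwd 858, .fwd 736, .bwd 735, .fwd 441] [5] (.rel 145), .derive 345 [.fwd 156, .fwd 551, .bwd 147, .bwd 1, .bwd 4, .fwd 445, .bwd 648, .bwd 828, .bwd 889, .edge 0, .edge 1, .edge 4, .edge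 3, .edge 2, .edge 3, .bwd 892, .bwd 895, .edge 5, .edge 0, .edge 1, .edge 4, .edge 3, .edge 2, .edge 3, .edge 4, .edge 2, .edge 5, .edge 0, .edge 1, .edge 4, .edge 3, .fwd 895, .fwd 840, .fwd 838, .fwd 833, .fwd 663, .fwd 661, .bwd 784, .bwd 785, .bwd 872, .edge 2, .fwd 851, .fwd 711, .fwd 381] [5] (.rel 148), .derive 284 [.bwd 292, .fwd 654, .bwd 681, .bwd 841, .bwd 896, .edge 3, .edge 5, .edge 2, .fwd 890, .fwd 829, .fwd 651, .fwd 281, .fwd 280, .bwd 0, .bwd 158, .bwd 562, .bwd 696, .fwd 694, .fwd 511, .bwd 162] [5] (.rel 144), .node 208 5, .derive 418 [.bwd 0, .bwd 449, .fwd 446] [4] (.rel 84)]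

/-- The steps of segment 1, part 9. -/
def ph1_9 : List Aux := [
  .derive 418 [.bwd 1, .fwd 449, .bwd 616, .bwd 266, .fwd 265, .bwd 588, .bwd 589, .fwd 584, .fwd 193] [0] (.rel 107), .node 210 3, .derive 419 [.bwd 0, .bwd 448, .fwd 741, .bwd 852, .bwd 741, .fwd 448, .fwd 0] [1] (.rel 8), .node 211 2, .node 212 2, .derive 421 [.bwd 0, .fwd 444, .bwd 513, .bwd 444, .fwd 0] [1] (.rel 1), .derive 421 [.fwd 0, .bwd 1, .fwd 445, .fwd 112, .fwd 111, .bwd 372, .bwd 464, .bwd 465, .fwd 31] [0] (.rel 40), .node 212 3, .derive 422 [.bwd 0, .fwd 447, .fwd 515, .bwd 584, .bwd 790, .bwd 710, .fwd 372] [5] (.rel 94), .node 213 0,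
  .derive 423 [.bwd 0, .bwd 448, .fwd 451, .fwd 5, .fwd 3, .bwd 35, .fwd 39] [2] (.rel 4), .node 214 0, .derive 424 [.bwd 0, .bwd 448, .bwd 449, .bwd 455, .bwd 109, .bwd 110, .bwd 515, .fwd 112] [4] (.rel 19), .node 215 0, .derive 425 [.bwd 0, .bwd 449, .bwd 750, .bwd 875, .fwd 877, .bwd 876, .fwd 759, .fwd 470, .fwd 29, .bwd 28] [2] (.rel 113), .node 215 4, .derive 426 [.bwd 0, .bwd 451, .bwd 751, .fwd 451, .fwd 0] [1] (.rel 0), .derive 426 [.bwd 1, .bwd 452, .bwd 753, .fwd 877, .fwd 777, .fwd 508, .bwd 507, .fwd 91, .bwd 90] [2] (.rel 31), .node 216 0, .derive 427 [.bwd 0, .bwd 452, .bwd 755, .fwd 751, .fwd 438] [3] (.rel 3),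
  .derive 427 [.bwd 1, .bwd 452, .bwd 453, .fwd 451, .bwd 105, .bwd 106, .bwd 519, .fwd 108] [4] (.rel 19), .node 216 2, .node 216 5, .derive 429 [.bwd 0, .bwd 456, .bwd 759, .bwd 884, .fwd 886, .fwd 768, .fwd 480, .fwd 45, .bwd 43] [2] (.rel 104), .derive 429 [.bwd 1, .bwd 457, .bwd 759, .bwd 760, .bwd 885, .fwd 887, .bwd 886, .fwd 767, .fwd 478, .fwd 37] [0] (.rel 115), .node 217 2, .derive 430 [.bwd 0, .bwd 457, .fwd 461, .fwd 10, .bwd 9, .fwd 8, .bwd 99] [4] (.rel 7), .node 219 2, .derive 431 [.bwd 0, .bwd 455, .bwd 762, .fwd 764, .fwd 463, .fwd 14, .fwd 13] [0] (.rel 5), .derive 431 [.bwd 1, .bwd 456, .bwd 763, .bwd 888, .fwd 763, .bwd 762, .fwd 456, .bwd 455, .fwd 1] [1] (.rel 26),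
  .derive 431 [.bwd 2, .bwd 457, .fwd 453, .fwd 451, .bwd 521, .bwd 789, .fwd 525, .bwd 524, .fwd 109] [4] (.rel 32), .node 219 4, .derive 432 [.bwd 0, .fwd 4, .bwd 2, .bwd 4, .fwd 0] [1] (.rel 0), .derive 432 [.fwd 0, .bwd 1, .fwd 5, .fwd 2, .bwd 112, .fwd 109, .bwd 108] [2] (.rel 6), .node 221 0, .derive 433 [.bwd 0, .bwd 457, .bwd 458, .fwd 460, .bwd 459, .bwd 460, .fwd 458, .fwd 0] [1] (.rel 17), .derive 433 [.bwd 1, .bwd 459, .bwd 770, .fwd 896, .bwd 902, .fwd 798, .bwd 797, .fwd 538, .fwd 125] [2] (.rel 33), .derive 433 [.fwd 1, .bwd 2, .bwd 459, .fwd 458, .bwd 528, .bwd 797, .fwd 799, .fwd 535, .fwd 119] [4] (.rel 29), .node 221 5, .derive 434 [.bwd 0, .bwd 462, .fwd 459] [4] (.rel 84),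
  .node 226 0, .derive 435 [.bwd 0, .bwd 455, .bwd 773, .fwd 901, .fwd 799, .fwd 523, .fwd 100] [4] (.rel 92), .node 227 2, .derive 436 [.bwd 0, .bwd 355, .bwd 356, .fwd 355, .fwd 0] [1] (.rel 1), .derive 436 [.fwd 0, .bwd 1, .bwd 356, .bwd 355, .bwd 291, .bwd 293, .fwd 295, .bwd 289, .bwd 294] [0] (.rel 30), .node 228 2, .derive 437 [.bwd 0, .fwd 455, .bwd 674, .bwd 606, .bwd 608, .fwd 603, .fwd 198, .bwd 51, .fwd 52, .fwd 44] [4] (.rel 62), .node 228 3, .derive 438 [.bwd 0, .fwd 455, .bwd 356, .fwd 357, .bwd 278] [0] (.rel 2), .node 229 4,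
  .derive 439 [.bwd 0, .bwd 456, .bwd 771, .fwd 456, .fwd 0] [1] (.rel 0), .derive 439 [.fwd 0, .bwd 1, .bwd 457, .bwd 460, .fwd 5, .fwd 4, .bwd 48] [2] (.rel 6), .derive 439 [.bwd 2, .fwd 456, .fwd 286, .fwd 285, .bwd 588, .bwd 624, .fwd 228] [0] (.rel 12), .node 231 3, .node 231 4, .derive 441 [.bwd 0, .bwd 217, .bwd 219, .fwd 224, .fwd 223, .bwd 404, .fwd 400] [0] (.rel 12), .node 232 0, .derive 442 [.bwd 0, .bwd 454, .bwd 775, .fwd 454, .fwd 0] [1] (.rel 87), .derive 442 [.bwd 1, .bwd 455, .fwd 777, .fwd 581, .fwd 182, .fwd 149, .fwd 565, .bwd 634, .bwd 840, .fwd 599, .bwd 437] [5] (.rel 140), .node 233 2,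
  .node 233 3, .node 234 4, .node 234 5, .derive 446 [.bwd 0, .fwd 455, .bwd 622, .fwd 620, .fwd 213, .fwd 212, .bwd 319, .fwd 318, .bwd 316, .fwd 317, .fwd 315] [3] (.rel 128), .node 235 0, .derive 447 [.bwd 0, .bwd 455, .bwd 456, .fwd 459, .bwd 458, .bwd 459, .fwd 456, .fwd 0] [1] (.rel 17), .derive 447 [.bwd 1, .bwd 457, .bwd 782, .bwd 783, .fwd 781, .fwd 454, .fwd 452, .bwd 760, .fwd 418] [4] (.rel 46), .node 235 2, .derive 448 [.bwd 0, .bwd 459, .bwd 785, .fwd 783, .bwd 782, .fwd 453, .bwd 452] [4] (.rel 7), .node 235 5,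
  .derive 449 [.bwd 0, .bwd 461, .fwd 459] [4] (.rel 84), .node 237 5, .derive 450 [.bwd 0, .fwd 458, .fwd 423] [4] (.rel 84), .node 239 3, .derive 451 [.bwd 0, .fwd 456, .fwd 451, .bwd 107, .bwd 108, .fwd 541, .fwd 413] [4] (.rel 13), .node 242 0, .derive 452 [.bwd 0, .bwd 453, .fwd 457, .fwd 455, .fwd 211] [3] (.rel 3), .node 242 5, .derive 453 [.bwd 0, .bwd 455, .fwd 459, .bwd 144, .bwd 145, .bwd 564, .bwd 565, .fwd 560, .fwd 136] [0] (.rel 107), .derive 395 [.bwd 138, .fwd 137, .bwd 0, .bwd 1, .fwd 3, .fwd 2, .bwd 214, .bwd 620, .fwd 861, .fwd 657, .fwd 260] [5] (.rel 137),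
  .node 243 4, .derive 454 [.bwd 0, .bwd 456, .bwd 457, .fwd 454, .fwd 453, .fwd 546, .bwd 827, .fwd 542, .fwd 111] [0] (.rel 47), .node 244 0, .derive 455 [.bwd 0, .bwd 457, .bwd 793, .fwd 789, .fwd 451] [3] (.rel 3), .node 244 5, .derive 456 [.bwd 0, .bwd 459, .bwd 794, .bwd 795, .bwd 938, .fwd 940, .bwd 939, .fwd 802, .fwd 481, .fwd 25] [0] (.rel 115), .node 245 2, .node 245 3, .derive 458 [.bwd 0, .bwd 461, .fwd 462, .bwd 119, .bwd 120, .fwd 550, .fwd 426] [4] (.rel 13), .node 246 5,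
  .derive 459 [.bwd 0, .bwd 461, .fwd 459] [4] (.rel 84), .node 250 0, .derive 460 [.bwd 0, .bwd 457, .bwd 798, .bwd 945, .edge 0, .fwd 959, .fwd 850, .fwd 574, .fwd 151, .fwd 12, .bwd 237] [5] (.rel 140), .node 250 3, .derive 461 [.bwd 0, .bwd 117, .bwd 118, .fwd 119, .bwd 87, .bwd 89, .fwd 533, .bwd 602, .bwd 603, .fwd 598, .fwd 190] [0] (.rel 126), .node 252 2, .derive 462 [.bwd 0, .bwd 152, .fwd 151, .bwd 291, .bwd 681, .fwd 294, .bwd 293] [4] (.rel 7), .derive 462 [.bwd 1, .bwd 458, .bwd 801, .bwd 836, .fwd 543, .fwd 95, .bwd 45] [3] (.rel 9), .node 255 0, .node 255 4]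

/-- The steps of segment 1, part 10. -/
def ph1_10 : List Aux := [
  .derive 464 [.bwd 0, .bwd 453, .bwd 457, .bwd 456, .fwd 455, .bwd 597, .fwd 182, .bwd 62, .fwd 63] [0] (.rel 28), .node 256 0, .derive 465 [.bwd 0, .bwd 454, .bwd 626, .bwd 629, .bwd 821, .bwd 822, .fwd 819, .fwd 496, .fwd 40] [3] (.rel 45), .derive 465 [.bwd 1, .bwd 455, .bwd 627, .fwd 628, .bwd 843, .bwd 628, .bwd 629, .fwd 627, .fwd 455, .fwd 1] [1] (.rel 49), .node 256 3, .derive 466 [.bwd 0, .bwd 38, .bwd 39, .bwd 40, .bwd 496, .fwd 501, .bwd 500, .fwd 44] [4] (.rel 22), .node 257 0, .derive 467 [.bwd 0, .bwd 458, .bwd 631, .bwd 634, .bwd 826, .fwd 504, .fwd 50] [4] (.rel 92), .derive 467 [.bwd 1, .bwd 458, .fwd 1, .fwd 0, .bwd 50, .fwd 49, .bwd 489, .bwd 819, .fwd 489, .bwd 448, .bwd 449] [5] (.rel 123), .node 258 2,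
  .node 258 3, .derive 469 [.bwd 0, .bwd 279, .bwd 278, .bwd 280, .fwd 275, .fwd 273, .bwd 509, .fwd 57] [4] (.rel 22), .node 260 5, .derive 470 [.bwd 0, .bwd 458, .fwd 456] [4] (.rel 84), .node 262 2, .derive 471 [.bwd 0, .fwd 455, .bwd 495, .bwd 455, .fwd 0] [1] (.rel 1), .derive 471 [.fwd 0, .bwd 1, .fwd 456, .bwd 182, .bwd 183, .bwd 603, .fwd 601, .bwd 600, .fwd 178] [0] (.rel 40), .node 264 5, .derive 472 [.bwd 0, .bwd 456, .bwd 807, .bwd 965, .fwd 967, .fwd 813, .fwd 470, .fwd 16, .bwd 14] [2] (.rel 104), .derive 472 [.bwd 1, .bwd 457, .bwd 807, .bwd 808, .bwd 966, .fwd 968, .bwd 967, .fwd 812, .fwd 468, .fwd 9] [0] (.rel 115),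
  .node 267 0, .derive 473 [.bwd 0, .bwd 454, .bwd 455, .fwd 457, .bwd 456, .bwd 457, .fwd 455, .fwd 0] [1] (.rel 17), .derive 473 [.bwd 1, .bwd 456, .bwd 809, .fwd 968, .bwd 974, .fwd 832, .bwd 831, .fwd 498, .fwd 41] [2] (.rel 33), .derive 473 [.fwd 1, .bwd 2, .bwd 456, .fwd 455, .bwd 494, .bwd 831, .fwd 833, .fwd 496, .fwd 36] [4] (.rel 29), .node 268 2, .derive 474 [.bwd 0, .bwd 152, .bwd 153, .fwd 152, .fwd 0] [1] (.rel 1), .derive 474 [.fwd 0, .bwd 1, .bwd 153, .bwd 115, .bwd 116, .bwd 564, .bwd 569, .bwd 568, .fwd 122] [0] (.rel 40), .node 269 0, .derive 475 [.bwd 0, .bwd 458, .fwd 459, .fwd 3, .fwd 1, .bwd 124, .bwd 170] [2] (.rel 4), .node 269 4,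
  .node 271 0, .derive 477 [.bwd 0, .bwd 458, .bwd 817, .fwd 977, .fwd 837, .fwd 496, .fwd 39] [4] (.rel 92), .node 273 5, .derive 478 [.bwd 0, .fwd 452, .bwd 124] [4] (.rel 84), .node 274 3, .derive 479 [.bwd 0, .bwd 172, .bwd 174, .fwd 171, .fwd 170, .fwd 265, .fwd 262] [4] (.rel 13), .node 274 5, .node 278 4, .derive 481 [.bwd 0, .fwd 443, .bwd 455, .fwd 3, .fwd 2, .bwd 265, .bwd 268, .bwd 269] [0] (.rel 18), .node 279 0,
  .derive 482 [.bwd 0, .bwd 443, .fwd 442, .bwd 683, .bwd 923, .fwd 683, .bwd 442, .fwd 0] [1] (.rel 17), .derive 482 [.bwd 1, .bwd 444, .bwd 445, .bwd 620, .fwd 198, .fwd 196, .bwd 336, .fwd 342, .bwd 340, .fwd 341] [2] (.rel 59), .node 279 2, .derive 483 [.bwd 0, .bwd 447, .bwd 806, .bwd 823, .fwd 821, .bwd 891, .bwd 841, .fwd 840, .bwd 909, .fwd 911, .fwd 661, .fwd 254] [4] (.rel 76), .derive 483 [.bwd 1, .bwd 448, .bwd 807, .bwd 980, .fwd 985, .bwd 869, .fwd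 868, .fwd 825, .fwd 822, .bwd 892, .bwd 857, .fwd 529, .bwd 147, .fwd 304, .bwd 700, .bwd 809, .bwd 811, .fwd 817, .bwd 469, .bwd 392, .bwd 390, .fwd 388, .fwd 437, .bwd 443, .bwd 444, .fwd 440] [0] (.rel 146), .derive 363 [.fwd 262, .bwd 357, .bwd 741, .fwd 739, .fwd 353, .bwd 3, .fwd 4, .bwd 5, .fwd 448, .fwd 2, .fwd 0, .bwd 350] [] (.rel 69), .derive 363 [.fwd 0] [] (.free), .derive 326 [.bwd 345, .fwd 732, .bwd 733, .fwd 739, .fwd 353, .fwd 351, .bwd 0, .fwd 264, .bwd 359, .bwd 743, .bwd 956, .fwd 958, .fwd 748, .fwd 368, .fwd 367, .fwd 365] [0] (.rel 135), .derive 315 [.bwd 367, .fwd 366, .bwd 0, .bwd 51, .bwd 52, .bwd 509, .fwd 850, .fwd 691, .bwd 450, .fwd 5, .fwd 4] [] (.rel 63), .derive 367 [.bwd 0] [] (.free),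
  .derive 315 [.bwd 0, .bwd 261] [3] (.free), .derive 330 [.bwd 343, .bwd 335, .bwd 370, .fwd 750, .fwd 369, .bwd 3, .bwd 348, .bwd 349, .bwd 737, .fwd 735, .bwd 733, .fwd 345] [] (.rel 129), .derive 330 [.fwd 0] [] (.free), .derive 328 [.bwd 0, .fwd 344] [5] (.free), .derive 332 [.bwd 343, .fwd 733, .bwd 734, .fwd 735, .bwd 338, .bwd 373, .fwd 753, .fwd 372, .bwd 6, .bwd 352, .bwd 740, .fwd 738, .fwd 347] [] (.rel 132), .derive 332 [.fwd 0] [] (.free), .derive 329 [.bwd 0, .bwd 345] [0] (.free), .derive 418 [.fwd 156, .fwd 0] [] (.free), .derive 329 [.bwd 2, .fwd 345] [4] (.free), .derive 418 [.fwd 1] [] (.free),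
  .derive 147 [.bwd 0, .fwd 160] [4] (.free), .derive 333 [.bwd 344, .fwd 0] [] (.free), .derive 147 [.bwd 2, .bwd 163] [5] (.free), .derive 334 [.bwd 345, .fwd 0] [] (.free), .derive 334 [.fwd 0] [] (.free), .derive 333 [.fwd 3] [] (.free), .derive 350 [.fwd 315, .bwd 422, .bwd 806, .fwd 810, .bwd 711, .fwd 710, .fwd 800, .fwd 417, .bwd 121, .bwd 123, .bwd 579, .fwd 894, .bwd 836, .bwd 773, .bwd 778, .fwd 978, .fwd 780, .bwd 570, .bwd 572, .fwd 569, .fwd 566, .bwd 771, .bwd 772, .fwd 766, .fwd 765, .fwd 384, .bwd 18, .bwd 364, .bwd 752, .bwd 973, .fwd 977, .fwd 772, .bwd 577, .bwd 578, .fwd 123, .fwd 121, .bwd 417, .bwd 802, .bwd 894, .bwd 775, .fwd 773, .fwd 834, .bwd 943, .fwd 706, .fwd 705] [] (.rel 147), .derive 350 [.fwd 0] [] (.free), .derive 127 [.bwd 0, .bwd 217] [4] (.free), .derive 305 [.bwd 410, .fwd 0] [] (.free),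
  .derive 399 [.bwd 0] [] (.free), .derive 305 [.bwd 0, .bwd 221] [2] (.free), .derive 403 [.fwd 210, .fwd 0] [] (.free), .derive 403 [.fwd 0] [] (.free), .derive 195 [.bwd 0, .fwd 211] [4] (.free), .derive 400 [.bwd 222, .fwd 0] [] (.free), .derive 400 [.fwd 0] [] (.free), .derive 274 [.bwd 0, .fwd 223] [3] (.free), .derive 479 [.bwd 43, .fwd 0] [] (.free), .derive 274 [.bwd 2, .fwd 224] [5] (.free),
  .derive 480 [.bwd 43, .fwd 0] [] (.free), .derive 480 [.fwd 0] [] (.free), .derive 479 [.fwd 3] [] (.free), .derive 251 [.bwd 0, .fwd 47] [4] (.free), .derive 273 [.fwd 503, .fwd 0] [] (.free), .derive 357 [.bwd 0] [] (.free), .derive 273 [.bwd 0, .bwd 313] [3] (.free), .derive 336 [.fwd 366, .fwd 0] [] (.free), .derive 336 [.fwd 0] [] (.free), .derive 169 [.bwd 0, .bwd 369] [4] (.free),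
  .derive 355 [.fwd 320, .fwd 0] [] (.free), .derive 355 [.fwd 0] [] (.free), .derive 148 [.bwd 0, .bwd 227] [3] (.free), .derive 55 [.fwd 771, .fwd 0] [] (.free), .derive 404 [.bwd 0] [] (.free), .derive 55 [.bwd 0, .bwd 231] [4] (.free), .derive 76 [.fwd 950, .fwd 0] [] (.free), .derive 198 [.bwd 0] [] (.free), .derive 76 [.bwd 0, .bwd 668] [2] (.free), .derive 29 [.fwd 955, .fwd 0] [] (.free)]

/-- The steps of segment 1, part 11. -/
def ph1_11 : List Aux := [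
  .derive 77 [.bwd 0] [] (.free), .derive 29 [.bwd 0, .fwd 669] [5] (.free), .derive 79 [.bwd 949, .fwd 0] [] (.free), .derive 199 [.bwd 0] [] (.free), .derive 79 [.bwd 0, .fwd 671] [4] (.free), .derive 200 [.fwd 670, .fwd 0] [] (.free), .derive 200 [.fwd 0] [] (.free), .derive 102 [.bwd 0, .bwd 673] [5] (.free), .derive 36 [.fwd 899, .fwd 0] [] (.free), .derive 78 [.bwd 0] [] (.free),
  .derive 36 [.bwd 0, .bwd 923] [3] (.free), .derive 14 [.fwd 1060, .fwd 0] [] (.free), .derive 92 [.bwd 0] [] (.free), .derive 14 [.bwd 0, .fwd 596] [5] (.free), .derive 37 [.bwd 1061, .fwd 0] [] (.free), .derive 239 [.bwd 0] [] (.free), .derive 37 [.bwd 0, .fwd 598] [4] (.free), .derive 34 [.bwd 1063, .fwd 0] [] (.free), .derive 93 [.bwd 0] [] (.free), .derive 34 [.bwd 0, .bwd 931] [5] (.free),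
  .derive 13 [.fwd 1073, .fwd 0] [] (.free), .derive 33 [.bwd 0] [] (.free), .derive 13 [.bwd 0, .fwd 939] [2] (.free), .derive 8 [.edge 2, .fwd 0] [] (.free), .derive 91 [.bwd 0] [] (.free), .derive 8 [.bwd 0, .fwd 614] [5] (.free), .derive 6 [.edge 5, .fwd 0] [] (.free), .derive 236 [.bwd 0] [] (.free), .derive 6 [.bwd 0, .bwd 157] [4] (.free), .derive 12 [.edge 4, .fwd 0] [] (.free),
  .derive 449 [.bwd 0] [] (.free), .derive 12 [.bwd 0, .bwd 161] [5] (.free), .derive 9 [.edge 5, .fwd 0] [] (.free), .derive 235 [.bwd 0] [] (.free), .derive 9 [.bwd 0, .fwd 166] [2] (.free), .derive 10 [.edge 2, .fwd 0] [] (.free), .derive 448 [.bwd 0] [] (.free), .derive 10 [.bwd 0, .fwd 168] [4] (.free), .derive 11 [.edge 4, .fwd 0] [] (.free), .derive 238 [.bwd 0] [] (.free),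
  .derive 11 [.bwd 0, .bwd 243] [5] (.free), .derive 31 [.bwd 1102, .fwd 0] [] (.free), .derive 345 [.bwd 0] [] (.free), .derive 31 [.bwd 0, .bwd 404] [2] (.free), .derive 85 [.bwd 978, .fwd 0] [] (.free), .derive 155 [.bwd 0] [] (.free), .derive 85 [.bwd 0, .bwd 811] [5] (.free), .derive 222 [.bwd 667, .fwd 0] [] (.free), .derive 222 [.fwd 0] [] (.free), .derive 59 [.bwd 0, .bwd 209] [4] (.free),
  .derive 25 [.bwd 1044, .fwd 0] [] (.free), .derive 434 [.bwd 0] [] (.free), .derive 25 [.bwd 0, .bwd 213] [5] (.free), .derive 64 [.bwd 1034, .fwd 0] [] (.free), .derive 221 [.bwd 0] [] (.free), .derive 64 [.bwd 0, .fwd 676] [2] (.free), .derive 156 [.fwd 816, .fwd 0] [] (.free), .derive 189 [.bwd 0] [] (.free), .derive 156 [.bwd 0, .bwd 749] [4] (.free), .derive 347 [.bwd 416, .fwd 0] [] (.free),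
  .derive 347 [.fwd 0] [] (.free), .derive 74 [.bwd 0, .fwd 417] [0] (.free), .derive 187 [.bwd 757, .fwd 0] [] (.free), .derive 305 [.bwd 0] [] (.free), .derive 187 [.bwd 0, .bwd 505] [4] (.free), .derive 387 [.bwd 341, .fwd 0] [] (.free), .derive 387 [.fwd 0] [] (.free), .derive 127 [.bwd 0, .bwd 233] [2] (.free), .derive 48 [.fwd 895, .fwd 0] [] (.free), .derive 432 [.bwd 0] [] (.free),
  .derive 48 [.bwd 0, .bwd 238] [4] (.free), .derive 108 [.fwd 946, .fwd 0] [] (.free), .derive 219 [.bwd 0] [] (.free), .derive 108 [.bwd 0, .fwd 245] [2] (.free), .derive 274 [.bwd 592, .fwd 0] [] (.free), .derive 431 [.bwd 0] [] (.free), .derive 274 [.bwd 0, .fwd 247] [0] (.free), .derive 278 [.fwd 582, .fwd 0] [] (.free), .derive 274 [.bwd 2, .fwd 247] [4] (.free), .derive 403 [.fwd 316, .fwd 0] [] (.free),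
  .derive 386 [.bwd 0, .fwd 106] [] (.free), .derive 413 [.bwd 3] [] (.free), .derive 278 [.bwd 0, .bwd 267] [2] (.free), .derive 111 [.fwd 590, .fwd 0] [] (.free), .derive 425 [.bwd 0] [] (.free), .derive 111 [.bwd 0, .bwd 271] [0] (.free), .derive 61 [.bwd 951, .fwd 0] [] (.free), .derive 215 [.bwd 0] [] (.free), .derive 61 [.bwd 0, .fwd 272] [4] (.free), .derive 24 [.fwd 1078, .fwd 0] [] (.free),
  .derive 426 [.bwd 0] [] (.free), .derive 24 [.bwd 0, .fwd 273] [2] (.free), .derive 60 [.bwd 1083, .fwd 0] [] (.free), .derive 388 [.bwd 0] [] (.free), .derive 60 [.bwd 0, .bwd 267] [4] (.free), .derive 158 [.bwd 852, .fwd 0] [] (.free), .derive 430 [.bwd 0] [] (.free), .derive 158 [.bwd 0, .bwd 271] [2] (.free), .derive 349 [.bwd 450, .fwd 0] [] (.free), .derive 349 [.fwd 0] [] (.free)]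

/-- The steps of segment 1, part 12. -/
def ph1_12 : List Aux := [
  .derive 217 [.bwd 0, .bwd 305] [3] (.free), .derive 382 [.fwd 386, .fwd 0] [] (.free), .derive 217 [.bwd 2, .fwd 453] [4] (.free), .derive 84 [.fwd 734, .fwd 0] [] (.free), .derive 159 [.bwd 0] [] (.free), .derive 84 [.bwd 0, .fwd 453] [3] (.free), .derive 216 [.bwd 739, .fwd 0] [] (.free), .derive 351 [.bwd 0] [] (.free), .derive 216 [.bwd 0, .bwd 455, .fwd 0] [5] (.free), .derive 429 [.bwd 286, .bwd 0] [] (.free),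
  .derive 429 [.fwd 0] [] (.free), .derive 216 [.bwd 0, .fwd 286] [0] (.free), .derive 427 [.bwd 293, .fwd 0] [] (.free), .derive 216 [.bwd 2, .fwd 289] [2] (.free), .derive 428 [.bwd 292, .fwd 0] [] (.free), .derive 428 [.fwd 0] [] (.free), .derive 427 [.fwd 3] [] (.free), .derive 414 [.bwd 0, .fwd 296] [4] (.free), .derive 417 [.bwd 16] [] (.free), .derive 382 [.bwd 0, .bwd 327] [2] (.free),
  .derive 382 [.bwd 1, .fwd 326] [4] (.free), .derive 184 [.fwd 407, .fwd 0] [] (.free), .derive 382 [.bwd 3, .fwd 326] [5] (.free), .derive 210 [.bwd 1] [] (.free), .derive 184 [.bwd 0, .bwd 328, .fwd 5] [5] (.free), .derive 383 [.bwd 409, .fwd 0] [] (.free), .derive 383 [.fwd 0] [] (.free), .derive 382 [.bwd 0, .fwd 410] [2] (.free), .derive 208 [.bwd 8, .fwd 0] [] (.free), .derive 289 [.bwd 0] [] (.free),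
  .derive 208 [.bwd 0, .bwd 518, .fwd 174] [5] (.free), .derive 418 [.bwd 332, .fwd 0] [] (.free), .derive 329 [.bwd 0, .fwd 172] [] (.free), .derive 147 [.bwd 0, .fwd 174] [4] (.free), .derive 333 [.bwd 517, .fwd 0] [] (.free), .derive 332 [.fwd 179, .fwd 2] [] (.free), .derive 290 [.bwd 1, .fwd 170] [] (.free), .derive 209 [.bwd 0, .bwd 614] [5] (.free), .derive 81 [.fwd 785, .fwd 0] [] (.free), .derive 116 [.bwd 0] [] (.free),
  .derive 81 [.bwd 0, .bwd 994] [3] (.free), .derive 207 [.bwd 793, .fwd 0] [] (.free), .derive 207 [.fwd 0] [] (.free), .derive 43 [.bwd 0, .fwd 353] [5] (.free), .derive 118 [.bwd 994, .fwd 0] [] (.free), .derive 416 [.bwd 0] [] (.free), .derive 118 [.bwd 0, .fwd 355] [4] (.free), .derive 291 [.fwd 621, .fwd 0] [] (.free), .derive 306 [.bwd 0] [] (.free), .derive 291 [.bwd 0, .bwd 588] [5] (.free),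
  .derive 117 [.fwd 625, .fwd 0] [] (.free), .derive 129 [.bwd 0] [] (.free), .derive 117 [.bwd 0, .fwd 972] [2] (.free), .derive 123 [.fwd 991, .fwd 0] [] (.free), .derive 128 [.bwd 0] [] (.free), .derive 123 [.bwd 0, .bwd 755] [4] (.free), .derive 46 [.fwd 996, .fwd 0] [] (.free), .derive 123 [.bwd 2, .bwd 980, .fwd 2] [5] (.free), .derive 300 [.bwd 613, .bwd 0] [] (.free), .derive 300 [.fwd 0] [] (.free),
  .derive 123 [.bwd 0, .fwd 614] [4] (.free), .derive 46 [.fwd 1001, .fwd 0] [] (.free), .derive 124 [.bwd 0] [] (.free), .derive 46 [.bwd 0, .fwd 615] [0] (.free), .derive 121 [.bwd 1008, .fwd 0] [] (.free), .derive 301 [.bwd 0] [] (.free), .derive 121 [.bwd 0, .bwd 302] [3] (.free), .derive 295 [.bwd 631, .fwd 0] [] (.free), .derive 446 [.bwd 0] [] (.free), .derive 295 [.bwd 0, .bwd 306] [5] (.free),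
  .derive 230 [.bwd 13] [] (.free), .derive 46 [.bwd 0, .bwd 774] [3] (.free), .derive 122 [.bwd 1014, .fwd 0] [] (.free), .derive 122 [.fwd 0] [] (.free), .derive 89 [.bwd 0, .fwd 635] [4] (.free), .derive 228 [.fwd 784, .fwd 0] [] (.free), .derive 297 [.bwd 0] [] (.free), .derive 228 [.bwd 0, .bwd 551] [3] (.free), .derive 438 [.bwd 330, .fwd 0] [] (.free), .derive 438 [.fwd 0] [] (.free),
  .derive 339 [.bwd 0, .fwd 331] [0] (.free), .derive 151 [.fwd 556, .fwd 0] [] (.free), .derive 311 [.bwd 0] [] (.free), .derive 151 [.bwd 0, .bwd 615] [4] (.free), .derive 298 [.fwd 641, .fwd 0] [] (.free), .derive 298 [.fwd 0] [] (.free), .derive 135 [.bwd 0, .fwd 645] [2] (.free), .derive 51 [.fwd 993, .fwd 0] [] (.free), .derive 142 [.bwd 0] [] (.free), .derive 51 [.bwd 0, .fwd 595] [5] (.free),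
  .derive 138 [.bwd 990, .fwd 0] [] (.free), .derive 323 [.bwd 0] [] (.free), .derive 138 [.bwd 0, .fwd 597] [4] (.free), .derive 314 [.fwd 613, .fwd 0] [] (.free), .derive 314 [.fwd 0] [] (.free), .derive 283 [.bwd 0, .bwd 616] [5] (.free), .derive 113 [.fwd 692, .fwd 0] [] (.free), .derive 137 [.bwd 0] [] (.free), .derive 113 [.bwd 0, .fwd 623] [2] (.free), .derive 42 [.fwd 1061, .fwd 0] [] (.free)]

/-- The steps of segment 1, part 13. -/
def ph1_13 : List Aux := [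
  .derive 313 [.bwd 0] [] (.free), .derive 42 [.bwd 0, .fwd 624] [4] (.free), .derive 57 [.fwd 1201, .fwd 0] [] (.free), .derive 152 [.bwd 0] [] (.free), .derive 57 [.bwd 0, .fwd 575] [3] (.free), .derive 111 [.fwd 1069, .fwd 0] [] (.free), .derive 341 [.bwd 0] [] (.free), .derive 111 [.bwd 0, .fwd 577] [4] (.free), .derive 65 [.bwd 1074, .fwd 0] [] (.free), .derive 293 [.bwd 0] [] (.free),
  .derive 65 [.bwd 0, .bwd 679] [3] (.free), .derive 45 [.bwd 1189, .fwd 0] [] (.free), .derive 120 [.bwd 0] [] (.free), .derive 45 [.bwd 0, .fwd 681] [4] (.free), .derive 20 [.bwd 1239, .fwd 0] [] (.free), .derive 294 [.bwd 0] [] (.free), .derive 20 [.bwd 0, .fwd 681] [0] (.free), .derive 7 [.fwd 1303, .fwd 0] [] (.free), .derive 143 [.bwd 0] [] (.free), .derive 7 [.bwd 0, .fwd 622] [5] (.free),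
  .derive 5 [.edge 5, .fwd 0] [] (.free), .derive 324 [.bwd 0] [] (.free), .derive 5 [.bwd 0, .fwd 624] [4] (.free), .derive 15 [.fwd 1319, .fwd 0] [] (.free), .derive 154 [.bwd 0] [] (.free), .derive 15 [.bwd 0, .bwd 991] [5] (.free), .derive 23 [.fwd 1303, .fwd 0] [] (.free), .derive 58 [.bwd 0] [] (.free), .derive 23 [.bwd 0, .fwd 996] [3] (.free), .derive 59 [.bwd 1224, .fwd 0] [] (.free),
  .derive 153 [.bwd 0] [] (.free), .derive 59 [.bwd 0, .fwd 595] [4] (.free), .derive 25 [.bwd 1226, .fwd 0] [] (.free), .derive 344 [.bwd 0] [] (.free), .derive 25 [.bwd 0, .fwd 597] [3] (.free), .derive 18 [.bwd 1307, .fwd 0] [] (.free), .derive 292 [.bwd 0] [] (.free), .derive 18 [.bwd 0, .fwd 707] [4] (.free), .derive 17 [.bwd 1328, .fwd 0] [] (.free), .derive 259 [.bwd 0] [] (.free),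
  .derive 17 [.bwd 0, .bwd 788] [3] (.free), .derive 44 [.bwd 1271, .fwd 0] [] (.free), .derive 101 [.bwd 0] [] (.free), .derive 44 [.bwd 0, .fwd 786] [5] (.free), .derive 119 [.bwd 1093, .fwd 0] [] (.free), .derive 261 [.bwd 0] [] (.free), .derive 119 [.bwd 0, .bwd 332] [4] (.free), .derive 56 [.bwd 1095, .fwd 0] [] (.free), .derive 470 [.bwd 0] [] (.free), .derive 56 [.bwd 0, .bwd 336] [5] (.free),
  .derive 22 [.fwd 1252, .fwd 0] [] (.free), .derive 260 [.bwd 0] [] (.free), .derive 22 [.bwd 0, .bwd 396] [0] (.free), .derive 8 [.bwd 1333, .fwd 0] [] (.free), .derive 441 [.bwd 0] [] (.free), .derive 8 [.bwd 0, .bwd 400] [4] (.free), .derive 9 [.edge 4, .fwd 0] [] (.free), .derive 231 [.bwd 0] [] (.free), .derive 9 [.bwd 0, .fwd 404] [3] (.free), .derive 26 [.bwd 1330, .fwd 0] [] (.free),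
  .derive 440 [.bwd 0] [] (.free), .derive 26 [.bwd 0, .bwd 349] [4] (.free), .derive 67 [.bwd 1236, .fwd 0] [] (.free), .derive 469 [.bwd 0] [] (.free), .derive 67 [.bwd 0, .bwd 353] [3] (.free), .derive 107 [.fwd 1142, .fwd 0] [] (.free), .derive 258 [.bwd 0] [] (.free), .derive 107 [.bwd 0, .fwd 357] [2] (.free), .derive 273 [.bwd 790, .fwd 0] [] (.free), .derive 468 [.bwd 0] [] (.free),
  .derive 273 [.bwd 0, .bwd 350] [0] (.free), .derive 112 [.bwd 791, .fwd 0] [] (.free), .derive 472 [.bwd 0] [] (.free), .derive 112 [.bwd 0, .bwd 355] [5] (.free), .derive 280 [.bwd 775, .fwd 0] [] (.free), .derive 280 [.fwd 0] [] (.free), .derive 264 [.bwd 0, .bwd 528] [4] (.free), .derive 458 [.fwd 388, .fwd 0] [] (.free), .derive 458 [.fwd 0] [] (.free), .derive 398 [.bwd 0, .bwd 391] [3] (.free),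
  .derive 262 [.bwd 531, .fwd 0] [] (.free), .derive 262 [.fwd 0] [] (.free), .derive 245 [.bwd 0, .bwd 373] [5] (.free), .derive 185 [.bwd 625, .fwd 0] [] (.free), .derive 467 [.bwd 0] [] (.free), .derive 185 [.bwd 0, .fwd 377] [4] (.free), .derive 73 [.fwd 984, .fwd 0] [] (.free), .derive 442 [.bwd 0] [] (.free), .derive 73 [.bwd 0, .fwd 429] [5] (.free), .derive 186 [.bwd 985, .fwd 0] [] (.free),
  .derive 240 [.bwd 0, .fwd 633] [] (.free), .derive 94 [.bwd 0, .fwd 870] [3] (.free), .derive 244 [.bwd 866, .fwd 0] [] (.free), .derive 244 [.fwd 0] [] (.free), .derive 164 [.bwd 0, .fwd 409] [5] (.free), .derive 63 [.fwd 1036, .fwd 0] [] (.free), .derive 456 [.bwd 0] [] (.free), .derive 63 [.bwd 0, .fwd 411] [0] (.free), .derive 55 [.bwd 1280, .fwd 0] [] (.free), .derive 443 [.bwd 0] [] (.free)]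

/-- The steps of segment 1, part 14. -/
def ph1_14 : List Aux := [
  .derive 55 [.bwd 0, .bwd 440] [2] (.free), .derive 22 [.fwd 1305, .fwd 0] [] (.free), .derive 233 [.bwd 0] [] (.free), .derive 22 [.bwd 0, .fwd 442] [3] (.free), .derive 7 [.fwd 1386, .fwd 0] [] (.free), .derive 444 [.bwd 0] [] (.free), .derive 7 [.bwd 0, .bwd 400] [4] (.free), .derive 23 [.bwd 1386, .fwd 0] [] (.free), .derive 466 [.bwd 0] [] (.free), .derive 23 [.bwd 0, .bwd 404] [3] (.free),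
  .derive 59 [.bwd 1305, .fwd 0] [] (.free), .derive 256 [.bwd 0] [] (.free), .derive 59 [.bwd 0, .bwd 864] [2] (.free), .derive 98 [.fwd 1212, .fwd 0] [] (.free), .derive 100 [.bwd 0] [] (.free), .derive 98 [.bwd 0, .fwd 866] [5] (.free), .derive 254 [.bwd 874, .fwd 0] [] (.free), .derive 257 [.bwd 0] [] (.free), .derive 254 [.bwd 0, .bwd 445] [4] (.free), .derive 99 [.bwd 876, .fwd 0] [] (.free),
  .derive 450 [.bwd 0] [] (.free), .derive 99 [.bwd 0, .bwd 449] [5] (.free), .derive 35 [.fwd 1218, .fwd 0] [] (.free), .derive 237 [.bwd 0] [] (.free), .derive 35 [.bwd 0, .fwd 911] [3] (.free), .derive 82 [.fwd 1264, .fwd 0] [] (.free), .derive 177 [.bwd 0] [] (.free), .derive 82 [.bwd 0, .fwd 637] [5] (.free), .derive 211 [.bwd 972, .fwd 0] [] (.free), .derive 368 [.bwd 0] [] (.free),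
  .derive 211 [.bwd 0, .fwd 639] [4] (.free), .derive 83 [.bwd 974, .fwd 0] [] (.free), .derive 205 [.bwd 0] [] (.free), .derive 83 [.bwd 0, .bwd 989] [5] (.free), .derive 30 [.fwd 1272, .fwd 0] [] (.free), .derive 80 [.bwd 0] [] (.free), .derive 30 [.bwd 0, .bwd 1009] [3] (.free), .derive 11 [.fwd 1400, .fwd 0] [] (.free), .derive 197 [.bwd 0] [] (.free), .derive 11 [.bwd 0, .fwd 580] [5] (.free),
  .derive 31 [.bwd 1401, .fwd 0] [] (.free), .derive 402 [.bwd 0] [] (.free), .derive 31 [.bwd 0, .fwd 582] [4] (.free), .derive 28 [.bwd 1403, .fwd 0] [] (.free), .derive 232 [.bwd 0] [] (.free), .derive 28 [.bwd 0, .bwd 942] [5] (.free), .derive 10 [.fwd 1413, .fwd 0] [] (.free), .derive 90 [.bwd 0] [] (.free), .derive 10 [.bwd 0, .fwd 1267] [3] (.free), .derive 27 [.bwd 1418, .fwd 0] [] (.free),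
  .derive 69 [.bwd 0] [] (.free), .derive 27 [.bwd 0, .fwd 1074] [5] (.free), .derive 72 [.bwd 1316, .fwd 0] [] (.free), .derive 173 [.bwd 0] [] (.free), .derive 72 [.bwd 0, .fwd 676] [3] (.free), .derive 182 [.bwd 1059, .fwd 0] [] (.free), .derive 360 [.bwd 0] [] (.free), .derive 182 [.bwd 0, .bwd 635, .fwd 276] [0] (.free), .derive 374 [.bwd 658, .fwd 0] [] (.free), .derive 182 [.bwd 2, .bwd 653] [2] (.free),
  .derive 375 [.bwd 659, .fwd 0] [] (.free), .derive 378 [.bwd 0] [] (.free), .derive 374 [.fwd 3] [] (.free), .derive 195 [.bwd 0, .bwd 550] [4] (.free), .derive 400 [.bwd 611, .fwd 0] [] (.free), .derive 424 [.bwd 0, .fwd 388] [] (.free), .derive 274 [.bwd 0, .bwd 554] [0] (.free), .derive 278 [.fwd 872, .fwd 0] [] (.free), .derive 278 [.fwd 0] [] (.free), .derive 214 [.bwd 0, .fwd 431] [4] (.free),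
  .derive 369 [.fwd 677, .fwd 0] [] (.free), .derive 481 [.bwd 0] [] (.free), .derive 369 [.bwd 0, .fwd 433, .fwd 380] [0] (.free), .derive 335 [.bwd 754, .bwd 0] [] (.free), .derive 369 [.bwd 0] [] (.free), .derive 335 [.bwd 0, .bwd 683] [3] (.free), .derive 352 [.fwd 721, .fwd 0] [] (.free), .derive 352 [.fwd 0] [] (.free), .derive 179 [.bwd 0, .bwd 485] [5] (.free), .derive 71 [.fwd 1091, .fwd 0] [] (.free),
  .derive 460 [.bwd 0] [] (.free), .derive 71 [.bwd 0, .bwd 449] [4] (.free), .derive 27 [.fwd 1348, .fwd 0] [] (.free), .derive 477 [.bwd 0] [] (.free), .derive 27 [.bwd 0, .bwd 453] [0] (.free), .derive 69 [.bwd 1355, .fwd 0] [] (.free), .derive 271 [.bwd 0, .fwd 35] [] (.free), .derive 27 [.bwd 0, .bwd 914] [5] (.free), .derive 72 [.bwd 1352, .fwd 0] [] (.free), .derive 105 [.bwd 0] [] (.free),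
  .derive 72 [.bwd 0, .fwd 919] [4] (.free), .derive 179 [.fwd 1102, .fwd 0] [] (.free), .derive 270 [.bwd 0] [] (.free), .derive 179 [.bwd 0, .fwd 921, .fwd 386] [3] (.free), .derive 263 [.bwd 933, .bwd 0] [] (.free), .derive 263 [.fwd 0] [] (.free), .derive 179 [.bwd 0, .bwd 521] [4] (.free), .derive 72 [.bwd 1108, .fwd 0] [] (.free), .derive 451 [.bwd 0] [] (.free), .derive 72 [.bwd 0, .bwd 525, .fwd 383] [3] (.free)]

/-- The steps of segment 1, part 15. -/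
def ph1_15 : List Aux := [
  .derive 182 [.bwd 1104, .fwd 0] [] (.free), .derive 182 [.fwd 0] [] (.free), .derive 37 [.bwd 0, .fwd 698] [5] (.free), .derive 14 [.fwd 1450, .fwd 0] [] (.free), .derive 377 [.bwd 0] [] (.free), .derive 14 [.bwd 0, .bwd 510] [0] (.free), .derive 35 [.bwd 1457, .fwd 0] [] (.free), .derive 461 [.bwd 0] [] (.free), .derive 35 [.bwd 0, .bwd 514] [3] (.free), .derive 82 [.fwd 1348, .fwd 0] [] (.free),
  .derive 250 [.bwd 0] [] (.free), .derive 82 [.bwd 0, .bwd 976] [5] (.free), .derive 211 [.bwd 1056, .fwd 0] [] (.free), .derive 211 [.fwd 0] [] (.free), .derive 96 [.bwd 0, .fwd 1057] [4] (.free), .derive 203 [.fwd 1073, .fwd 0] [] (.free), .derive 203 [.fwd 0] [] (.free), .derive 83 [.bwd 0, .bwd 1077] [3] (.free), .derive 214 [.bwd 1055, .fwd 0] [] (.free), .derive 214 [.fwd 0] [] (.free),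
  .derive 79 [.bwd 0, .bwd 727, .fwd 45] [4] (.free), .derive 200 [.fwd 1086, .fwd 0] [] (.free), .derive 335 [.bwd 0, .fwd 415] [] (.free), .derive 102 [.bwd 0, .bwd 543] [5] (.free), .derive 36 [.fwd 1315, .fwd 0] [] (.free), .derive 395 [.bwd 0] [] (.free), .derive 36 [.bwd 0, .bwd 584] [4] (.free), .derive 77 [.fwd 1378, .fwd 0] [] (.free), .derive 435 [.bwd 0, .fwd 427] [] (.free), .derive 29 [.bwd 0, .bwd 588] [0] (.free),
  .derive 11 [.fwd 1495, .fwd 0] [] (.free), .derive 226 [.bwd 0] [] (.free), .derive 11 [.bwd 0, .bwd 1046] [5] (.free), .derive 31 [.bwd 1494, .fwd 0] [] (.free), .derive 86 [.bwd 0] [] (.free), .derive 31 [.bwd 0, .fwd 1051] [4] (.free), .derive 28 [.bwd 1496, .fwd 0] [] (.free), .derive 225 [.bwd 0] [] (.free), .derive 28 [.bwd 0, .bwd 992] [3] (.free), .derive 75 [.bwd 1397, .fwd 0] [] (.free),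
  .derive 254 [.bwd 0] [] (.free), .derive 75 [.bwd 0, .bwd 999] [5] (.free), .derive 193 [.bwd 1124, .fwd 0] [] (.free), .derive 193 [.fwd 0] [] (.free), .derive 98 [.bwd 0, .bwd 704] [4] (.free), .derive 35 [.fwd 1346, .fwd 0] [] (.free), .derive 394 [.bwd 0] [] (.free), .derive 35 [.bwd 0, .bwd 708] [5] (.free), .derive 99 [.bwd 1344, .fwd 0] [] (.free), .derive 192 [.bwd 0] [] (.free),
  .derive 99 [.bwd 0, .fwd 715] [0] (.free), .derive 217 [.fwd 1080, .fwd 0] [] (.free), .derive 99 [.bwd 2, .fwd 714] [2] (.free), .derive 255 [.bwd 1006, .fwd 0] [] (.free), .derive 393 [.bwd 0] [] (.free), .derive 255 [.bwd 0, .bwd 538] [0] (.free), .derive 463 [.bwd 557, .fwd 0] [] (.free), .derive 471 [.bwd 0] [] (.free), .derive 463 [.bwd 0, .bwd 543, .fwd 176] [2] (.free), .derive 457 [.bwd 572, .bwd 0] [] (.free),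
  .derive 463 [.bwd 0] [] (.free), .derive 457 [.bwd 0, .bwd 562] [0] (.free), .derive 392 [.bwd 10] [] (.free), .derive 217 [.bwd 0, .fwd 726] [5] (.free), .derive 103 [.bwd 800, .fwd 0] [] (.free), .derive 195 [.bwd 0] [] (.free), .derive 103 [.bwd 0, .fwd 713, .fwd 489] [4] (.free), .derive 201 [.fwd 1129, .fwd 0] [] (.free), .derive 274 [.bwd 0] [] (.free), .derive 201 [.bwd 0, .fwd 532, .fwd 487] [5] (.free),
  .derive 84 [.bwd 809, .fwd 0] [] (.free), .derive 223 [.bwd 0] [] (.free), .derive 84 [.bwd 0, .bwd 652, .fwd 355] [3] (.free), .derive 216 [.bwd 1106, .fwd 0] [] (.free), .derive 414 [.bwd 0] [] (.free), .derive 216 [.bwd 0, .bwd 688] [2] (.free), .derive 428 [.bwd 654, .fwd 0] [] (.free), .derive 216 [.bwd 2, .fwd 359] [4] (.free), .derive 385 [.fwd 758, .fwd 0] [] (.free), .derive 385 [.fwd 0] [] (.free),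
  .derive 381 [.bwd 0, .bwd 761] [3] (.free), .derive 190 [.bwd 768, .fwd 0] [] (.free), .derive 190 [.fwd 0] [] (.free), .derive 185 [.bwd 0, .fwd 1171] [5] (.free), .derive 245 [.fwd 826, .fwd 0] [] (.free), .derive 245 [.fwd 0] [] (.free), .derive 148 [.bwd 0, .bwd 1059] [4] (.free), .derive 336 [.bwd 867, .fwd 0] [] (.free), .derive 169 [.bwd 499, .fwd 0] [] (.free), .derive 94 [.bwd 0, .fwd 816, .fwd 503] [3] (.free),
  .derive 244 [.bwd 1064, .fwd 0] [] (.free), .derive 273 [.bwd 0, .fwd 197] [] (.free), .derive 164 [.bwd 0, .fwd 559] [5] (.free), .derive 63 [.fwd 1234, .fwd 0] [] (.free), .derive 478 [.bwd 0] [] (.free), .derive 63 [.bwd 0, .fwd 561] [4] (.free), .derive 97 [.fwd 1398, .fwd 0] [] (.free), .derive 422 [.bwd 0] [] (.free), .derive 97 [.bwd 0, .bwd 690] [3] (.free), .derive 252 [.bwd 1060, .fwd 0] [] (.free)]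

/-- The steps of segment 1, part 16. -/
def ph1_16 : List Aux := [
  .derive 97 [.bwd 2, .fwd 691] [5] (.free), .derive 253 [.bwd 1060, .fwd 0] [] (.free), .derive 253 [.fwd 0] [] (.free), .derive 252 [.fwd 3] [] (.free), .derive 212 [.bwd 0, .fwd 730] [5] (.free), .derive 412 [.fwd 721, .fwd 0] [] (.free), .derive 412 [.fwd 0] [] (.free), .derive 408 [.bwd 0, .fwd 724] [4] (.free), .derive 268 [.bwd 735, .fwd 0] [] (.free), .derive 359 [.bwd 0] [] (.free),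
  .derive 268 [.bwd 0, .fwd 801] [5] (.free), .derive 397 [.fwd 765, .fwd 0] [] (.free), .derive 397 [.fwd 0] [] (.free), .derive 180 [.bwd 0, .fwd 768] [2] (.free), .derive 370 [.bwd 820, .fwd 0] [] (.free), .derive 180 [.bwd 2, .bwd 772] [3] (.free), .derive 149 [.bwd 1223, .fwd 0] [] (.free), .derive 194 [.bwd 0] [] (.free), .derive 149 [.bwd 0, .fwd 771] [5] (.free), .derive 55 [.fwd 1295, .fwd 0] [] (.free),
  .derive 398 [.bwd 0] [] (.free), .derive 55 [.bwd 0, .fwd 773, .fwd 245] [4] (.free), .derive 76 [.fwd 1476, .fwd 0] [] (.free), .derive 264 [.bwd 0] [] (.free), .derive 76 [.bwd 0, .fwd 606, .fwd 251] [5] (.free), .derive 196 [.bwd 1201, .fwd 0] [] (.free), .derive 280 [.fwd 250, .fwd 2] [] (.free), .derive 196 [.fwd 1] [] (.free), .derive 112 [.bwd 0, .fwd 772] [3] (.free), .derive 279 [.bwd 1033, .fwd 0] [] (.free),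
  .derive 401 [.bwd 0] [] (.free), .derive 279 [.bwd 0, .fwd 773, .fwd 117] [0] (.free), .derive 248 [.bwd 1100, .bwd 0] [] (.free), .derive 279 [.bwd 2, .bwd 604] [2] (.free), .derive 483 [.bwd 591, .fwd 0] [] (.free), .derive 483 [.fwd 0] [] (.free), .derive 475 [.bwd 0, .fwd 591] [0] (.free), .derive 269 [.fwd 609, .fwd 0] [] (.free), .derive 283 [.bwd 0] [] (.free), .derive 269 [.bwd 0, .bwd 944, .fwd 347] [4] (.free),
  .derive 476 [.bwd 610, .fwd 0] [] (.free), .derive 476 [.fwd 0] [] (.free), .derive 279 [.bwd 9] [] (.free), .derive 248 [.bwd 0, .fwd 603] [0] (.free), .derive 96 [.fwd 1112, .fwd 0] [] (.free), .derive 248 [.bwd 2, .fwd 602, .fwd 9] [2] (.free), .derive 372 [.fwd 848, .fwd 0] [] (.free), .derive 248 [.bwd 4, .bwd 1051] [3] (.free), .derive 455 [.fwd 664, .fwd 0] [] (.free), .derive 455 [.fwd 0] [] (.free),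
  .derive 475 [.bwd 3] [] (.free), .derive 372 [.bwd 0, .bwd 623] [0] (.free), .derive 181 [.fwd 855, .fwd 0] [] (.free), .derive 269 [.bwd 0] [] (.free), .derive 181 [.bwd 0, .fwd 624, .fwd 12] [4] (.free), .derive 373 [.bwd 856, .fwd 0] [] (.free), .derive 283 [.fwd 17, .fwd 2] [] (.free), .derive 373 [.fwd 1] [] (.free), .derive 482 [.bwd 13] [] (.free), .derive 96 [.bwd 0, .fwd 617] [2] (.free),
  .derive 249 [.bwd 1126, .fwd 0] [] (.free), .derive 322 [.bwd 0] [] (.free), .derive 249 [.bwd 0, .bwd 970] [0] (.free), .derive 370 [.fwd 868, .fwd 0] [] (.free), .derive 370 [.fwd 0] [] (.free), .derive 327 [.bwd 50, .fwd 0] [] (.free), .derive 141 [.bwd 0, .bwd 961] [4] (.free), .derive 52 [.fwd 1361, .fwd 0] [] (.free), .derive 144 [.bwd 0] [] (.free), .derive 52 [.bwd 0, .bwd 1355] [3] (.free),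
  .derive 21 [.fwd 1579, .fwd 0] [] (.free), .derive 53 [.bwd 0] [] (.free), .derive 21 [.bwd 0, .fwd 1356] [5] (.free), .derive 54 [.bwd 1578, .fwd 0] [] (.free), .derive 145 [.bwd 0] [] (.free), .derive 54 [.bwd 0, .fwd 969] [0] (.free), .derive 146 [.bwd 1357, .fwd 0] [] (.free), .derive 328 [.bwd 0] [] (.free), .derive 146 [.bwd 0, .fwd 624] [5] (.free), .derive 331 [.bwd 969, .fwd 0] [] (.free),
  .derive 315 [.bwd 965, .fwd 0] [] (.free), .derive 175 [.bwd 0, .fwd 630] [3] (.free), .derive 70 [.fwd 1302, .fwd 0] [] (.free), .derive 176 [.bwd 0] [] (.free), .derive 70 [.bwd 0, .fwd 899] [0] (.free), .derive 174 [.bwd 1306, .fwd 0] [] (.free), .derive 70 [.bwd 2, .fwd 899] [2] (.free), .derive 27 [.fwd 1555, .fwd 0] [] (.free), .derive 366 [.bwd 0] [] (.free), .derive 27 [.bwd 0, .fwd 901] [4] (.free),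
  .derive 71 [.bwd 1556, .fwd 0] [] (.free), .derive 178 [.bwd 0] [] (.free), .derive 71 [.bwd 0, .bwd 957] [3] (.free), .derive 98 [.fwd 1490, .fwd 0] [] (.free), .derive 343 [.bwd 0] [] (.free), .derive 98 [.bwd 0, .bwd 797] [5] (.free), .derive 254 [.bwd 1154, .fwd 0] [] (.free), .derive 284 [.bwd 0, .fwd 156] [] (.free), .derive 75 [.bwd 0, .bwd 1093] [2] (.free), .derive 191 [.bwd 1286, .fwd 0] [] (.free)]

/-- The steps of segment 1, part 17. -/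
def ph1_17 : List Aux := [
  .derive 191 [.fwd 0] [] (.free), .derive 114 [.bwd 0, .fwd 868] [0] (.free), .derive 67 [.bwd 1462, .fwd 0] [] (.free), .derive 391 [.bwd 0] [] (.free), .derive 67 [.bwd 0, .fwd 870, .fwd 313] [2] (.free), .derive 243 [.bwd 1181, .bwd 0] [] (.free), .derive 243 [.fwd 0] [] (.free), .derive 67 [.bwd 0, .fwd 726] [4] (.free), .derive 26 [.fwd 1582, .fwd 0] [] (.free), .derive 454 [.bwd 0] [] (.free),
  .derive 26 [.bwd 0, .fwd 728] [0] (.free), .derive 65 [.bwd 1590, .fwd 0] [] (.free), .derive 26 [.bwd 2, .bwd 689] [2] (.free), .derive 66 [.bwd 1589, .fwd 0] [] (.free), .derive 473 [.bwd 0] [] (.free), .derive 66 [.bwd 0, .fwd 691] [4] (.free), .derive 167 [.bwd 1352, .fwd 0] [] (.free), .derive 457 [.bwd 0] [] (.free), .derive 167 [.bwd 0, .fwd 156] [0] (.free), .derive 310 [.fwd 1052, .fwd 0] [] (.free),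
  .derive 167 [.bwd 2, .bwd 733, .fwd 134] [2] (.free), .derive 320 [.fwd 1031, .bwd 0] [] (.free), .derive 320 [.fwd 0] [] (.free), .derive 167 [.bwd 0, .bwd 1034] [3] (.free), .derive 326 [.fwd 1020, .fwd 0] [] (.free), .derive 326 [.fwd 0] [] (.free), .derive 140 [.bwd 0, .bwd 729] [4] (.free), .derive 321 [.bwd 1036, .fwd 0] [] (.free), .derive 462 [.bwd 0] [] (.free), .derive 321 [.bwd 0, .bwd 733, .fwd 125] [2] (.free),
  .derive 421 [.bwd 825, .bwd 0] [] (.free), .derive 421 [.fwd 0] [] (.free), .derive 363 [.fwd 685, .fwd 440] [] (.free), .derive 310 [.fwd 13] [] (.free), .derive 255 [.bwd 0, .bwd 1068] [4] (.free), .derive 464 [.bwd 735, .fwd 0] [] (.free), .derive 464 [.fwd 0] [] (.free), .derive 133 [.bwd 0, .fwd 736] [0] (.free), .derive 229 [.fwd 1242, .fwd 0] [] (.free), .derive 380 [.bwd 0] [] (.free),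
  .derive 229 [.bwd 0, .bwd 929] [4] (.free), .derive 439 [.bwd 791, .fwd 0] [] (.free), .derive 439 [.fwd 0] [] (.free), .derive 183 [.bwd 0, .fwd 790] [0] (.free), .derive 378 [.bwd 939, .fwd 0] [] (.free), .derive 183 [.bwd 2, .bwd 747, .fwd 16] [3] (.free), .derive 379 [.bwd 936, .fwd 0] [] (.free), .derive 379 [.fwd 0] [] (.free), .derive 375 [.bwd 286, .fwd 3] [] (.free), .derive 338 [.bwd 0, .bwd 948, .fwd 247] [2] (.free),
  .derive 104 [.bwd 1537, .bwd 0] [] (.free), .derive 338 [.bwd 0] [] (.free), .derive 104 [.bwd 0, .bwd 1028] [4] (.free), .derive 267 [.bwd 1187, .fwd 0] [] (.free), .derive 267 [.fwd 0] [] (.free), .derive 150 [.bwd 0, .fwd 1187] [2] (.free), .derive 56 [.fwd 1430, .fwd 0] [] (.free), .derive 246 [.bwd 0] [] (.free), .derive 56 [.bwd 0, .fwd 768] [5] (.free), .derive 22 [.fwd 1661, .fwd 0] [] (.free),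
  .derive 459 [.bwd 0] [] (.free), .derive 22 [.bwd 0, .fwd 770] [4] (.free), .derive 44 [.fwd 1690, .fwd 0] [] (.free), .derive 247 [.bwd 0] [] (.free), .derive 44 [.bwd 0, .bwd 1233] [5] (.free), .derive 119 [.bwd 1514, .fwd 0] [] (.free), .derive 119 [.fwd 0] [] (.free), .derive 407 [.bwd 55] [] (.free), .derive 65 [.bwd 0, .bwd 898] [4] (.free), .derive 111 [.fwd 1535, .fwd 0] [] (.free),
  .derive 202 [.bwd 0] [] (.free), .derive 365 [.bwd 85] [] (.free), .derive 174 [.bwd 0, .fwd 986] [4] (.free), .derive 362 [.bwd 992, .fwd 0] [] (.free), .derive 362 [.fwd 0] [] (.free), .derive 411 [.bwd 559, .fwd 198] [] (.free), .derive 206 [.bwd 0, .fwd 897] [3] (.free), .derive 415 [.bwd 889, .fwd 0] [] (.free), .derive 415 [.fwd 0] [] (.free), .derive 364 [.bwd 0, .fwd 890] [4] (.free),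
  .derive 175 [.fwd 996, .fwd 0] [] (.free), .derive 307 [.bwd 0] [] (.free), .derive 175 [.bwd 0, .bwd 1120] [0] (.free), .derive 363 [.bwd 1001, .fwd 0] [] (.free), .derive 175 [.bwd 2, .fwd 1121] [3] (.free), .derive 70 [.fwd 1405, .fwd 0] [] (.free), .derive 171 [.bwd 0] [] (.free), .derive 70 [.bwd 0, .fwd 1013] [4] (.free), .derive 176 [.bwd 1406, .fwd 0] [] (.free), .derive 358 [.bwd 0, .fwd 105] [] (.free),
  .derive 70 [.bwd 0, .fwd 1015] [0] (.free), .derive 174 [.bwd 1412, .fwd 0] [] (.free), .derive 208 [.bwd 0] [] (.free), .derive 174 [.bwd 0, .fwd 901, .fwd 574] [2] (.free), .derive 361 [.bwd 1014, .fwd 0] [] (.free), .derive 174 [.bwd 2, .bwd 1345] [4] (.free), .derive 362 [.bwd 1015, .fwd 0] [] (.free), .derive 334 [.fwd 732, .fwd 4] [] (.free), .derive 204 [.bwd 23, .fwd 1] [] (.free), .derive 362 [.fwd 24, .fwd 0] [] (.free)]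

/-- The steps of segment 1, part 18. -/
def ph1_18 : List Aux := [
  .derive 382 [.bwd 5] [] (.free), .derive 361 [.bwd 0, .fwd 578, .fwd 577] [5] (.free), .derive 138 [.bwd 69, .fwd 18] [] (.free), .derive 130 [.bwd 0, .bwd 1503] [5] (.free), .derive 308 [.bwd 1140, .fwd 0] [] (.free), .derive 308 [.fwd 0] [] (.free), .derive 51 [.bwd 0, .bwd 1122] [0] (.free), .derive 21 [.fwd 1718, .fwd 0] [] (.free), .derive 317 [.bwd 0] [] (.free), .derive 21 [.bwd 0, .bwd 1126, .fwd 6] [3] (.free),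
  .derive 49 [.fwd 1529, .bwd 0] [] (.free), .derive 49 [.fwd 0] [] (.free), .derive 21 [.bwd 0, .fwd 1527] [5] (.free), .derive 54 [.bwd 1718, .fwd 0] [] (.free), .derive 132 [.bwd 0] [] (.free), .derive 54 [.bwd 0, .fwd 1150] [3] (.free), .derive 147 [.bwd 1496, .fwd 0] [] (.free), .derive 309 [.bwd 0] [] (.free), .derive 147 [.bwd 0, .bwd 1144] [0] (.free), .derive 332 [.bwd 1108, .fwd 0] [] (.free),
  .derive 312 [.bwd 0, .fwd 584] [] (.free), .derive 147 [.bwd 0, .bwd 1148] [5] (.free), .derive 334 [.bwd 1104, .fwd 0] [] (.free), .derive 174 [.bwd 25, .fwd 0] [] (.free), .derive 136 [.bwd 0, .fwd 1043, .fwd 24] [4] (.free), .derive 282 [.fwd 1222, .fwd 0] [] (.free), .derive 282 [.fwd 0] [] (.free), .derive 81 [.bwd 0, .bwd 1225] [3] (.free), .derive 207 [.bwd 1380, .fwd 0] [] (.free), .derive 113 [.bwd 0, .fwd 586] [] (.free),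
  .derive 43 [.bwd 0, .fwd 1226, .fwd 173] [5] (.free), .derive 118 [.bwd 1581, .fwd 0] [] (.free), .derive 181 [.bwd 0] [] (.free), .derive 373 [.fwd 175, .fwd 30] [] (.free), .derive 118 [.bwd 1, .fwd 1035, .fwd 0] [4] (.free), .derive 286 [.fwd 1223, .bwd 0] [] (.free), .derive 286 [.fwd 0] [] (.free), .derive 118 [.bwd 0, .fwd 1225] [4] (.free), .derive 291 [.fwd 1212, .fwd 0] [] (.free), .derive 291 [.fwd 0] [] (.free),
  .derive 130 [.bwd 0, .bwd 1215] [5] (.free), .derive 308 [.bwd 1177, .fwd 0] [] (.free), .derive 117 [.bwd 0, .fwd 36] [] (.free), .derive 51 [.bwd 0, .bwd 1581] [2] (.free), .derive 135 [.bwd 1550, .fwd 0] [] (.free), .derive 135 [.fwd 0] [] (.free), .derive 123 [.bwd 0, .bwd 1357] [5] (.free), .derive 300 [.bwd 1202, .fwd 0] [] (.free), .derive 227 [.bwd 0, .fwd 588] [] (.free), .derive 123 [.bwd 0, .bwd 1261] [4] (.free),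
  .derive 46 [.fwd 1590, .fwd 0] [] (.free), .derive 276 [.bwd 0] [] (.free), .derive 46 [.bwd 0, .bwd 1180, .fwd 569] [5] (.free), .derive 124 [.bwd 1590, .fwd 0] [] (.free), .derive 151 [.bwd 0, .fwd 591] [] (.free), .derive 46 [.bwd 0, .fwd 1128] [3] (.free), .derive 122 [.bwd 1598, .fwd 0] [] (.free), .derive 340 [.bwd 0, .fwd 583] [] (.free), .derive 89 [.bwd 0, .fwd 1130] [4] (.free), .derive 228 [.fwd 1368, .fwd 0] [] (.free),
  .derive 295 [.bwd 0] [] (.free), .derive 228 [.bwd 0, .fwd 591] [5] (.free), .derive 88 [.fwd 1372, .fwd 0] [] (.free), .derive 234 [.bwd 0] [] (.free), .derive 88 [.bwd 0, .fwd 902] [4] (.free), .derive 32 [.fwd 1692, .fwd 0] [] (.free), .derive 445 [.bwd 0] [] (.free), .derive 32 [.bwd 0, .bwd 864] [3] (.free), .derive 19 [.bwd 1825, .fwd 0] [] (.free), .derive 465 [.bwd 0] [] (.free),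
  .derive 19 [.bwd 0, .bwd 851, .fwd 497] [2] (.free), .derive 41 [.fwd 1634, .bwd 0] [] (.free), .derive 41 [.fwd 0] [] (.free), .derive 19 [.bwd 0, .bwd 1809] [5] (.free), .derive 48 [.bwd 1792, .fwd 0] [] (.free), .derive 48 [.fwd 0] [] (.free), .derive 16 [.bwd 0, .bwd 1651] [4] (.free), .derive 38 [.fwd 1819, .fwd 0] [] (.free), .derive 108 [.bwd 0] [] (.free), .derive 38 [.bwd 0, .bwd 1655] [5] (.free),
  .derive 107 [.bwd 1661, .fwd 0] [] (.free), .derive 107 [.fwd 0] [] (.free), .derive 39 [.bwd 0, .fwd 1659] [3] (.free), .derive 39 [.fwd 1823, .fwd 0] [] (.free), .derive 67 [.bwd 0] [] (.free), .derive 39 [.bwd 0, .fwd 1516] [5] (.free), .derive 108 [.bwd 1662, .fwd 0] [] (.free), .derive 170 [.bwd 0, .fwd 8] [] (.free), .derive 38 [.bwd 0, .fwd 1518] [4] (.free), .derive 16 [.bwd 1831, .fwd 0] [] (.free),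
  .derive 68 [.bwd 0] [] (.free), .derive 16 [.bwd 0, .bwd 1763] [5] (.free), .derive 41 [.bwd 1828, .fwd 0] [] (.free), .derive 26 [.bwd 0, .fwd 20] [] (.free), .derive 19 [.bwd 0, .bwd 1865] [3] (.free), .derive 32 [.fwd 1852, .fwd 0] [] (.free), .derive 32 [.fwd 0] [] (.free), .derive 9 [.bwd 0, .fwd 1719] [5] (.free), .derive 12 [.edge 5, .fwd 0] [] (.free), .derive 89 [.bwd 0] [] (.free)]

/-- The steps of segment 1, part 19. -/
def ph1_19 : List Aux := [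
  .derive 12 [.bwd 0, .bwd 1409] [4] (.free), .derive 6 [.edge 4, .fwd 0] [] (.free), .derive 228 [.bwd 0] [] (.free), .derive 6 [.bwd 0, .bwd 1413] [5] (.free), .derive 8 [.edge 5, .fwd 0] [] (.free), .derive 88 [.bwd 0] [] (.free), .derive 8 [.bwd 0, .bwd 1729, .fwd 0] [3] (.free), .derive 24 [.bwd 1883, .bwd 0] [] (.free), .derive 24 [.fwd 0] [] (.free), .derive 8 [.bwd 0, .fwd 1795] [5] (.free),
  .derive 6 [.edge 5, .fwd 0] [] (.free), .derive 62 [.bwd 0] [] (.free), .derive 6 [.bwd 0, .bwd 1565] [4] (.free), .derive 12 [.edge 4, .fwd 0] [] (.free), .derive 160 [.bwd 0] [] (.free), .derive 12 [.bwd 0, .bwd 1569] [5] (.free), .derive 9 [.edge 5, .fwd 0] [] (.free), .derive 61 [.bwd 0] [] (.free), .derive 9 [.bwd 0, .fwd 1574, .fwd 713] [2] (.free), .derive 10 [.edge 2, .fwd 0] [] (.free),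
  .derive 84 [.bwd 0] [] (.free), .derive 10 [.bwd 0, .fwd 1449, .fwd 1161] [5] (.free), .derive 28 [.bwd 1889, .fwd 0] [] (.free), .derive 201 [.bwd 0] [] (.free), .derive 28 [.bwd 0, .fwd 1486] [4] (.free), .derive 31 [.fwd 1885, .fwd 0] [] (.free), .derive 103 [.bwd 0] [] (.free), .derive 31 [.bwd 0, .fwd 1364, .fwd 1164] [5] (.free), .derive 11 [.fwd 1889, .fwd 0] [] (.free), .derive 217 [.bwd 0] [] (.free),
  .derive 11 [.bwd 0, .bwd 1115, .fwd 129] [3] (.free), .derive 30 [.bwd 1894, .fwd 0] [] (.free), .derive 361 [.bwd 0] [] (.free), .derive 30 [.bwd 0, .fwd 131] [5] (.free), .derive 83 [.bwd 1772, .fwd 0] [] (.free), .derive 184 [.bwd 0] [] (.free), .derive 382 [.fwd 135, .fwd 3] [] (.free), .derive 83 [.bwd 1, .fwd 1123, .fwd 0] [4] (.free), .derive 82 [.bwd 1779, .bwd 0] [] (.free), .derive 83 [.bwd 0] [] (.free),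
  .derive 82 [.bwd 0, .bwd 1778] [5] (.free), .derive 211 [.bwd 1485, .fwd 0] [] (.free), .derive 96 [.bwd 428, .fwd 0] [] (.free), .derive 30 [.bwd 0, .bwd 1749] [3] (.free), .derive 11 [.fwd 1907, .fwd 0] [] (.free), .derive 34 [.bwd 0] [] (.free), .derive 11 [.bwd 0, .bwd 1899] [5] (.free), .derive 31 [.bwd 1908, .fwd 0] [] (.free), .derive 31 [.fwd 0] [] (.free), .derive 13 [.bwd 0, .fwd 1909] [4] (.free),
  .derive 14 [.edge 4, .fwd 0] [] (.free), .derive 28 [.bwd 0] [] (.free), .derive 14 [.bwd 0, .bwd 1919] [5] (.free), .derive 37 [.bwd 1900, .fwd 0] [] (.free), .derive 37 [.fwd 0] [] (.free), .derive 10 [.bwd 0, .fwd 1741, .fwd 465] [3] (.free), .derive 27 [.bwd 1925, .fwd 0] [] (.free), .derive 72 [.bwd 0] [] (.free), .derive 27 [.bwd 0, .bwd 1569] [4] (.free), .derive 71 [.bwd 1825, .fwd 0] [] (.free),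
  .derive 179 [.bwd 0] [] (.free), .derive 369 [.fwd 486, .fwd 438] [] (.free), .derive 71 [.bwd 1, .fwd 1170, .fwd 0] [3] (.free), .derive 98 [.fwd 1760, .fwd 0] [] (.free), .derive 102 [.bwd 0] [] (.free), .derive 98 [.bwd 0, .bwd 1756] [5] (.free), .derive 254 [.bwd 1424, .fwd 0] [] (.free), .derive 75 [.bwd 426, .fwd 0] [] (.free), .derive 36 [.bwd 0, .fwd 1553, .fwd 418] [4] (.free), .derive 77 [.fwd 1820, .fwd 0] [] (.free),
  .derive 99 [.bwd 0, .fwd 869] [] (.free), .derive 29 [.bwd 0, .bwd 1767] [5] (.free), .derive 79 [.bwd 1819, .fwd 0] [] (.free), .derive 79 [.fwd 0] [] (.free), .derive 35 [.bwd 0, .fwd 1535, .fwd 203] [2] (.free), .derive 97 [.bwd 1779, .fwd 0] [] (.free), .derive 111 [.bwd 0] [] (.free), .derive 97 [.bwd 0, .bwd 1744] [5] (.free), .derive 253 [.bwd 1437, .fwd 0] [] (.free), .derive 251 [.bwd 376, .fwd 0] [] (.free),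
  .derive 40 [.bwd 0, .bwd 1399, .fwd 388] [4] (.free), .derive 110 [.bwd 1753, .fwd 0] [] (.free), .derive 164 [.bwd 0] [] (.free), .derive 110 [.bwd 0, .bwd 1624] [5] (.free), .derive 65 [.bwd 1752, .fwd 0] [] (.free), .derive 65 [.fwd 0] [] (.free), .derive 63 [.bwd 0, .fwd 1864] [3] (.free), .derive 163 [.bwd 1630, .fwd 0] [] (.free), .derive 163 [.fwd 0] [] (.free), .derive 45 [.bwd 0, .bwd 1456] [5] (.free),
  .derive 20 [.bwd 1914, .fwd 0] [] (.free), .derive 248 [.bwd 0] [] (.free), .derive 20 [.bwd 0, .bwd 1008, .fwd 342] [3] (.free), .derive 50 [.bwd 1907, .fwd 0] [] (.free), .derive 112 [.bwd 0] [] (.free), .derive 50 [.bwd 0, .fwd 1396, .fwd 368] [5] (.free), .derive 134 [.bwd 1708, .fwd 0] [] (.free), .derive 134 [.fwd 0] [] (.free), .derive 76 [.bwd 0, .fwd 1709] [4] (.free), .derive 55 [.bwd 1853, .fwd 0] [] (.free)]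

/-- The steps of segment 1, part 20. -/
def ph1_20 : List Aux := [
  .derive 106 [.bwd 0] [] (.free), .derive 55 [.bwd 0, .bwd 1758] [5] (.free), .derive 149 [.bwd 1678, .fwd 0] [] (.free), .derive 149 [.fwd 0] [] (.free), .derive 114 [.bwd 0, .bwd 1611] [3] (.free), .derive 42 [.fwd 1766, .fwd 0] [] (.free), .derive 180 [.bwd 0] [] (.free), .derive 42 [.bwd 0, .bwd 1546] [4] (.free), .derive 57 [.fwd 1907, .fwd 0] [] (.free), .derive 212 [.bwd 0] [] (.free),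
  .derive 57 [.bwd 0, .fwd 1105, .fwd 278] [2] (.free), .derive 151 [.bwd 1682, .fwd 0] [] (.free), .derive 321 [.bwd 0, .fwd 157] [] (.free), .derive 46 [.bwd 0, .bwd 1322] [4] (.free), .derive 123 [.bwd 1754, .fwd 0] [] (.free), .derive 140 [.bwd 0] [] (.free), .derive 123 [.bwd 0, .fwd 1327, .fwd 293] [3] (.free), .derive 299 [.bwd 1373, .fwd 0] [] (.free), .derive 299 [.fwd 0] [] (.free), .derive 167 [.bwd 0, .bwd 1268, .fwd 951] [2] (.free),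
  .derive 48 [.fwd 1747, .bwd 0] [] (.free), .derive 167 [.bwd 0, .fwd 145] [] (.free), .derive 16 [.bwd 0, .fwd 1251] [5] (.free), .derive 41 [.bwd 1959, .fwd 0] [] (.free), .derive 356 [.bwd 0, .fwd 151] [] (.free), .derive 19 [.bwd 0, .fwd 1253] [4] (.free), .derive 39 [.fwd 1964, .fwd 0] [] (.free), .derive 168 [.bwd 0] [] (.free), .derive 39 [.bwd 0, .bwd 1662] [5] (.free), .derive 108 [.bwd 1805, .fwd 0] [] (.free),
  .derive 66 [.bwd 0, .fwd 151] [] (.free), .derive 38 [.bwd 0, .fwd 1669] [3] (.free), .derive 15 [.fwd 1976, .fwd 0] [] (.free), .derive 166 [.bwd 0] [] (.free), .derive 15 [.bwd 0, .fwd 1268] [4] (.free), .derive 5 [.bwd 2031, .fwd 0] [] (.free), .derive 354 [.bwd 0] [] (.free), .derive 5 [.bwd 0, .fwd 1270] [3] (.free), .derive 6 [.edge 3, .fwd 0] [] (.free), .derive 229 [.bwd 0] [] (.free),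
  .derive 6 [.bwd 0, .fwd 1090, .fwd 297] [4] (.free), .derive 12 [.edge 4, .fwd 0] [] (.free), .derive 183 [.bwd 0] [] (.free), .derive 379 [.fwd 295, .fwd 30] [] (.free), .derive 12 [.bwd 1, .fwd 1234, .fwd 0] [3] (.free), .derive 4 [.edge 3, .fwd 0] [] (.free), .derive 46 [.bwd 0] [] (.free), .derive 124 [.fwd 784, .fwd 0] [] (.free), .derive 4 [.bwd 1, .fwd 1785, .fwd 0] [5] (.free), .derive 18 [.bwd 2040, .bwd 0] [] (.free),
  .derive 18 [.fwd 0] [] (.free), .derive 4 [.bwd 0, .fwd 2041] [4] (.free), .derive 3 [.edge 4, .fwd 0] [] (.free), .derive 17 [.bwd 0] [] (.free), .derive 3 [.bwd 0, .fwd 1984] [3] (.free), .derive 16 [.bwd 2050, .fwd 0] [] (.free), .derive 44 [.bwd 0] [] (.free), .derive 16 [.bwd 0, .fwd 1806, .fwd 290] [5] (.free), .derive 41 [.bwd 1994, .fwd 0] [] (.free), .derive 95 [.bwd 0, .fwd 186] [] (.free),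
  .derive 19 [.bwd 0, .fwd 1531, .fwd 302] [4] (.free), .derive 39 [.fwd 1999, .fwd 0] [] (.free), .derive 56 [.bwd 0] [] (.free), .derive 39 [.bwd 0, .bwd 1965] [5] (.free), .derive 108 [.bwd 1840, .fwd 0] [] (.free), .derive 38 [.bwd 186, .fwd 0] [] (.free), .derive 22 [.bwd 0, .bwd 2010] [3] (.free), .derive 7 [.fwd 2049, .fwd 0] [] (.free), .derive 15 [.bwd 0] [] (.free), .derive 7 [.bwd 0, .bwd 2046] [5] (.free),
  .derive 5 [.edge 5, .fwd 0] [] (.free), .derive 23 [.bwd 0] [] (.free), .derive 5 [.bwd 0, .fwd 1967] [3] (.free), .derive 6 [.edge 3, .fwd 0] [] (.free), .derive 59 [.bwd 0] [] (.free), .derive 6 [.bwd 0, .fwd 1740, .fwd 929] [5] (.free), .derive 8 [.edge 5, .fwd 0] [] (.free), .derive 85 [.bwd 0] [] (.free), .derive 8 [.bwd 0, .fwd 1601, .fwd 923] [4] (.free), .derive 9 [.edge 4, .fwd 0] [] (.free),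
  .derive 64 [.bwd 0] [] (.free), .derive 9 [.bwd 0, .bwd 1962] [5] (.free), .derive 12 [.edge 5, .fwd 0] [] (.free), .derive 25 [.bwd 0] [] (.free), .derive 9 [.fwd 2058, .fwd 0] [0] (.free), .commit 0]

/-- Segment 1. -/
def seg1 : List Phase := [.aux ((((ph1_0 ++ ph1_1) ++ (ph1_2 ++ (ph1_3 ++ ph1_4))) ++ ((ph1_5 ++ ph1_6) ++ (ph1_7 ++ (ph1_8 ++ ph1_9)))) ++ (((ph1_10 ++ ph1_11) ++ (ph1_12 ++ (ph1_13 ++ ph1_14))) ++ ((ph1_15 ++ (ph1_16 ++ ph1_17)) ++ (ph1_18 ++ (ph1_19 ++ ph1_20)))))]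

theorem seg1_ok : stIs (runList (phaseStep P) seg1 ⟨15, mask1, []⟩) 484 mask2 = true := by decide +kernel

/-- The steps of segment 2, part 0. -/
def ph2_0 : List ℕ := [
  57371, 57378, 32803, 40996, 53283, 45093, 57438, 53342, 12385, 16481,
  28771, 4196, 28773, 28780]

/-- Segment 2. -/
def seg2 : List Phase := [.scans ph2_0]

theorem seg2_ok : stIs (runList (phaseStep P) seg2 ⟨484, mask2, []⟩) 484 (2 ^ (15 * P.k) - 1) = true := by decide +kernel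

end Cfsg.Agent.CoThreeSp6.LevelE
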