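import Cfsg.Agent.Lib.CoThreeSp6.LevelE.Tab
import Cfsg.Agent.Lib.CoThreeSp6.LevelE.Seg0

/-! The coset enumeration over the normaliser of an elementary abelian group. -/

set_option autoImplicit false
set_option maxRecDepth 100000
set_option Elab.async false

namespace Cfsg.Agent.CoThreeSp6.LevelE

open Cfsg.Agent.CosetCert

theorem treeRun_ok : stIs (runList (treeStep P) tree ⟨1, 0, []⟩) 15 mask0 = true := by decide +kernel

/-- The phases. -/
def phases : List Phase :=
  seg0 ++ (seg1 ++ (seg2))

theorem cert_ok : checkCert P 15 tree phases = true :=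
  checkCert_of_run P treeRun_ok (run_append P seg0_ok (run_append P seg1_ok (run_last P seg2_ok)))

theorem gen0_ok : genOK P 15 0 = true := by decide +kernel

theorem gen1_ok : genOK P 15 1 = true := by decide +kernel

theorem gen2_ok : genOK P 15 2 = true := by decide +kernel

theorem gen3_ok : genOK P 15 3 = true := by decide +kernel

theorem gen4_ok : genOK P 15 4 = true := by decide +kernel

theorem gen5_ok : genOK P 15 5 = true := by decide +kernel

theorem tab_ok : tableOK P 15 = true := tableOK_of_gens P (by decide +kernel) (by decide +kernel) fun x hx =>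
  match x, hx with
  | 0, _ => gen0_ok
  | 1, _ => gen1_ok
  | 2, _ => gen2_ok
  | 3, _ => gen3_ok
  | 4, _ => gen4_ok
  | 5, _ => gen5_ok
  | _ + 6, hx => absurd (show _ + 6 < 6 from hx) (by omega)

theorem rots_ok : rotsOK base rots.entries hints = true := by decide +kernel

end Cfsg.Agent.CoThreeSp6.LevelE
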