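import Cfsg.Agent.Lib.Compute.CosetBound

/-! The coset enumeration over the normaliser of an elementary abelian group: data. -/

set_option autoImplicit false
set_option maxRecDepth 100000
set_option Elab.async false

namespace Cfsg.Agent.CoThreeSp6.LevelE

open Cfsg.Agent.CosetCert

/-- The table. -/
def tab : Tab :=
  .leaf 0xa000d0009000b000e0006000b000e000d0008000d000a0009000600040006000c0009000d000a0007000e000b0008000e000b00030009000a000d000c0008000e000a0009000c000600090008000d0008000b00050005000b0001000700070008000c0005000c0006000e00070007000600050005000400040003000c00040004000500030004000a000200030003000200020001000300020001000000010002000700010002000100000000000000000000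

/-- The relators. -/
def base : List (List ℕ) := [
  [1, 4, 2, 1, 2, 4],
  [3, 0, 3, 0, 3, 0],
  [0, 2, 0, 2, 0, 2, 0, 2],
  [2, 4, 1, 2, 1, 4, 2, 4],
  [2, 3, 1, 3, 2, 3, 1, 3],
  [2, 3, 2, 3, 2, 3, 2, 3],
  [0, 4, 0, 4, 0, 4, 0, 4],
  [3, 4, 3, 4, 3, 4, 3, 4],
  [4, 1, 0, 1, 0, 4, 3, 1, 3],
  [3, 4, 3, 1, 0, 4, 0, 1, 4],
  [2, 0, 3, 0, 1, 0, 3, 0, 2, 1],
  [0, 2, 1, 2, 1, 0, 1, 2, 1, 2],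
  [0, 2, 4, 2, 1, 0, 1, 4, 2, 4],
  [3, 1, 0, 3, 1, 0, 1, 3, 0, 1],
  [3, 4, 1, 3, 1, 0, 1, 4, 0, 4],
  [0, 3, 0, 4, 1, 0, 3, 0, 1, 4],
  [0, 3, 1, 4, 1, 0, 3, 0, 4, 3],
  [4, 2, 1, 0, 2, 1, 4, 2, 0, 2],
  [1, 4, 1, 0, 2, 1, 2, 1, 0, 4],
  [0, 3, 2, 1, 2, 0, 3, 0, 1, 3],
  [1, 3, 2, 1, 2, 1, 3, 2, 1, 2],
  [0, 3, 4, 3, 2, 0, 3, 4, 3, 2],
  [1, 4, 0, 4, 2, 1, 4, 0, 4, 2],
  [3, 0, 3, 1, 3, 0, 3, 2, 1, 2],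
  [2, 3, 1, 0, 1, 0, 3, 2, 0, 1, 0],
  [1, 0, 2, 0, 1, 0, 2, 0, 3, 1, 3],
  [1, 4, 3, 0, 1, 0, 3, 4, 3, 1, 3],
  [3, 0, 4, 0, 1, 0, 4, 1, 0, 3, 1],
  [1, 2, 4, 0, 1, 0, 4, 2, 3, 1, 3],
  [4, 0, 4, 2, 1, 0, 1, 3, 4, 3, 2],
  [1, 0, 2, 4, 1, 0, 4, 2, 3, 4, 3],
  [3, 2, 4, 0, 2, 0, 4, 2, 4, 3, 4],
  [4, 0, 2, 4, 2, 0, 4, 2, 3, 1, 3],
  [3, 4, 3, 1, 3, 0, 4, 0, 3, 4, 1],
  [1, 2, 4, 0, 4, 0, 1, 3, 4, 3, 2],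
  [0, 2, 4, 0, 2, 1, 0, 1, 2, 0, 4, 2],
  [4, 3, 0, 1, 2, 1, 0, 3, 4, 3, 2, 3],
  [3, 0, 3, 1, 3, 1, 0, 3, 0, 1, 0, 1],
  [1, 4, 1, 3, 4, 0, 2, 0, 3, 4, 3, 2, 4, 3],
  [4, 2, 4, 3, 0, 2, 0, 4, 2, 3, 2, 4, 3],
  [3, 4, 2, 0, 3, 0, 2, 0, 3, 0, 2, 4, 3, 0],
  [4, 1, 3, 0, 1, 0, 2, 1, 2, 4, 3, 0, 4, 0],
  [2, 4, 3, 2, 3, 1, 2, 1, 3, 2, 3, 4, 2, 4],
  [3, 1, 3, 0, 1, 2, 1, 2, 3, 1, 3, 0],
  [5, 4, 5, 4],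
  [5, 0, 1, 0, 5, 1],
  [5, 0, 1, 0, 4, 5, 4, 1],
  [5, 3, 1, 3, 5, 3, 1, 3],
  [5, 0, 4, 0, 5, 3, 4, 3],
  [5, 0, 3, 5, 2, 1, 0, 2, 0, 3],
  [5, 0, 1, 4, 0, 5, 3, 4, 3, 1],
  [5, 4, 0, 1, 0, 4, 5, 2, 1, 2],
  [5, 4, 0, 4, 1, 0, 5, 0, 4, 0, 1],
  [5, 0, 1, 3, 5, 0, 2, 0, 2, 1, 3],
  [5, 3, 4, 0, 1, 5, 3, 4, 0, 2, 0, 2],
  [5, 1, 0, 4, 3, 5, 0, 2, 0, 2, 4, 3],
  [5, 0, 2, 0, 1, 2, 3, 5, 1, 0, 3, 1],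
  [5, 3, 2, 0, 2, 3, 5, 1, 2, 1, 0, 2],
  [5, 2, 0, 2, 5, 3, 1, 2, 0, 2, 1, 3],
  [5, 1, 4, 0, 1, 0, 5, 1, 4, 0, 1, 0],
  [5, 4, 3, 0, 5, 3, 0, 1, 4, 2, 0, 2],
  [5, 3, 0, 4, 1, 5, 3, 2, 3, 4, 3, 2],
  [5, 3, 2, 1, 0, 2, 1, 0, 5, 3, 0, 1],
  [5, 3, 2, 1, 0, 2, 3, 1, 5, 2, 1, 0, 2],
  [5, 3, 2, 0, 2, 1, 0, 5, 0, 3, 1, 0, 3],
  [5, 2, 0, 2, 1, 5, 1, 3, 2, 1, 0, 2, 3],
  [5, 0, 2, 4, 3, 1, 2, 3, 4, 2, 5, 3, 0, 1, 3, 2, 0, 2, 3],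
  [5, 4, 0, 3, 2, 0, 2, 1, 5, 0, 3, 1, 2, 0, 2, 4],
  [0, 3, 0, 5, 0, 3, 0, 5, 0, 3, 0, 5],
  [5, 0, 5, 3, 5, 0, 5, 3, 5, 0, 5, 3],
  [3, 5, 3, 0, 3, 5, 3, 0, 3, 5, 3, 0],
  [3, 2, 3, 5, 3, 2, 3, 5, 3, 2, 3, 5, 3, 2, 3, 5, 3, 2, 3, 5],
  [2, 5, 2, 5, 3, 2, 3, 2, 5, 2, 5, 3, 2, 3, 2, 5, 2, 5, 3, 2, 3],
  [2, 1, 4, 3, 2, 4, 2, 1, 5, 2, 1, 4, 3, 2, 4, 2, 1, 5, 2, 1, 4, 3, 2, 4, 2, 1, 5, 2, 1, 4, 3, 2, 4, 2, 1, 5, 2, 1, 4, 3, 2, 4, 2, 1, 5],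
  [0, 5, 2, 3, 2, 0, 5, 0, 2, 0, 5, 2, 3, 2, 0, 5, 0, 2, 0, 5, 2, 3, 2, 0, 5, 0, 2],
  [2, 0, 4, 3, 2, 0, 2, 1, 5, 2, 0, 4, 3, 2, 0, 2, 1, 5, 2, 0, 4, 3, 2, 0, 2, 1, 5, 2, 0, 4, 3, 2, 0, 2, 1, 5, 2, 0, 4, 3, 2, 0, 2, 1, 5],
  [2, 4, 3, 2, 3, 4, 1, 0, 5, 2, 4, 3, 2, 3, 4, 1, 0, 5, 2, 4, 3, 2, 3, 4, 1, 0, 5, 2, 4, 3, 2, 3, 4, 1, 0, 5, 2, 4, 3, 2, 3, 4, 1, 0, 5],
  [5, 1, 5, 3, 1, 0, 5, 0, 1, 5, 1, 5, 3, 1, 0, 5, 0, 1, 5, 1, 5, 3, 1, 0, 5, 0, 1]]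

/-- Rotations of the relators. -/
def rots : WTab :=
  (.node (.node (.node (.node (.node (.node (.node (.node (.leaf [4, 2, 1, 2, 4, 1]) (.leaf [5, 2, 3, 4, 3, 2, 3, 5, 1, 4, 0, 3])) (.node (.leaf [3, 1, 3, 2, 4, 0, 2, 4, 2, 0, 4]) (.leaf [4, 2, 1, 2, 4, 1]))) (.node (.node (.leaf [2, 0, 4, 2, 4, 1, 0, 1, 2, 4]) (.leaf [4, 2, 1, 2, 4, 1])) (.node (.leaf [3, 5, 0, 4, 0, 5, 3, 4]) (.leaf [4, 2, 1, 2, 4, 1])))) (.node (.node (.node (.leaf [3, 4, 0, 1, 0, 1, 4, 3, 1]) (.leaf [2, 5, 2, 3, 2, 3, 5, 2, 5, 2, 3, 2, 3, 5, 2, 5, 2, 3, 2, 3, 5])) (.node (.leaf [0, 3, 0, 2, 4, 3, 0, 3, 4, 2, 0, 3, 0, 2]) (.leaf [4, 2, 1, 2, 4, 1]))) (.node (.node (.leaf [3, 0, 3, 2, 1, 2, 3, 0, 3, 1]) (.leaf [4, 2, 1, 2, 4, 1])) (.node (.leaf [2, 1, 3, 5, 0, 1, 3, 5, 0, 2, 0]) (.leaf [4, 2, 1, 2, 4, 1])))))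 (.node (.node (.node (.node (.leaf [3, 2, 3, 1, 3, 2, 3, 1]) (.leaf [5, 1, 2, 0, 2, 3, 0, 4, 5, 4, 2, 0, 2, 1, 3, 0])) (.node (.leaf [3, 0, 3, 1, 0, 1, 0, 3, 0, 1, 3, 1]) (.leaf [4, 2, 1, 2, 4, 1]))) (.node (.node (.leaf [1, 2, 4, 2, 0, 2, 4, 1, 2, 0]) (.leaf [4, 2, 1, 2, 4, 1])) (.node (.leaf [5, 3, 0, 5, 3, 0, 2, 0, 1, 2]) (.leaf [4, 2, 1, 2, 4, 1])))) (.node (.node (.node (.leaf [0, 3, 0, 2, 1, 2, 0, 3, 0, 1]) (.leaf [4, 2, 1, 2, 4, 1])) (.node (.leaf [1, 4, 5, 4, 0, 1, 0, 5]) (.leaf [4, 2, 1, 2, 4, 1]))) (.node (.node (.leaf [3, 2, 4, 0, 4, 2, 1, 0, 1, 3, 4]) (.leaf [4, 2, 1, 2, 4, 1])) (.node (.leaf [2, 3, 5, 1, 0, 3, 1, 5, 0, 2, 0, 1]) (.leaf [4, 2, 1, 2, 4, 1])))))) (.node (.node (.node (.node (.node (.leaf [0, 2, 0, 2, 0, 2, 0, 2]) (.leaf [0, 1, 3, 0, 5, 0, 1, 2, 0,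 2, 3, 5, 3])) (.node (.leaf [4, 3, 1, 0, 4, 0, 4, 2, 1, 2, 3]) (.leaf [4, 2, 1, 2, 4, 1]))) (.node (.node (.leaf [1, 0, 1, 4, 0, 4, 3, 4, 1, 3]) (.leaf [4, 2, 1, 2, 4, 1])) (.node (.leaf [1, 0, 2, 0, 3, 5, 0, 3, 5, 2]) (.leaf [4, 2, 1, 2, 4, 1])))) (.node (.node (.node (.leaf [1, 3, 4, 3, 4, 1, 0, 4, 0]) (.leaf [0, 1, 4, 3, 2, 3, 4, 2, 5, 0, 1, 4, 3, 2, 3, 4, 2, 5, 0, 1, 4, 3, 2, 3, 4, 2, 5, 0, 1, 4, 3, 2, 3, 4, 2, 5, 0, 1, 4, 3, 2, 3, 4, 2, 5])) (.node (.leaf [5, 4, 5, 4]) (.leaf [4, 2, 1, 2, 4, 1]))) (.node (.node (.leaf [3, 4, 3, 0, 1, 0, 3, 4, 1, 3, 1]) (.leaf [4, 2, 1, 2, 4, 1])) (.node (.leaf [5, 3, 1, 2, 0, 2, 0, 5, 3, 1, 0]) (.leaf [4, 2, 1, 2, 4, 1]))))) (.node (.node (.node (.node (.leaf [4, 0, 4, 0, 4, 0, 4, 0]) (.leaf [0, 5, 3, 5, 0, 5, 3, 5, 0, 5, 3, 5])) (.node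 (.leaf [2, 3, 2, 4, 0, 2, 0, 3, 4, 2, 4, 3, 4]) (.leaf [4, 2, 1, 2, 4, 1]))) (.node (.node (.leaf [3, 0, 2, 3, 4, 3, 0, 2, 3, 4]) (.leaf [4, 2, 1, 2, 4, 1])) (.node (.leaf [0, 5, 3, 4, 3, 1, 5, 0, 1, 4]) (.leaf [4, 2, 1, 2, 4, 1])))) (.node (.node (.node (.leaf [4, 2, 4, 1, 0, 1, 2, 4, 2, 0]) (.leaf [4, 2, 1, 2, 4, 1])) (.node (.leaf [0, 5, 3, 4, 3, 5, 0, 4]) (.leaf [4, 2, 1, 2, 4, 1]))) (.node (.node (.leaf [0, 4, 2, 4, 3, 4, 3, 2, 4, 0, 2]) (.leaf [4, 2, 1, 2, 4, 1])) (.node (.leaf [3, 5, 0, 3, 4, 5, 2, 0, 2, 4, 1, 0]) (.leaf [4, 2, 1, 2, 4, 1]))))))) (.node (.node (.node (.node (.node (.node (.leaf [3, 0, 3, 0, 3, 0]) (.leaf [0, 2, 5, 3, 2, 1, 0, 2, 3, 1, 5, 2, 1])) (.node (.leaf [4, 0, 3, 1, 3, 4, 3, 1, 4, 3, 0]) (.leaf [4, 2, 1, 2, 4, 1]))) (.node (.node (.leaf [1, 0, 1,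 3, 0, 1, 3, 1, 0, 3]) (.leaf [4, 2, 1, 2, 4, 1])) (.node (.leaf [3, 5, 2, 1, 0, 2, 0, 3, 5, 0]) (.leaf [4, 2, 1, 2, 4, 1])))) (.node (.node (.node (.leaf [4, 0, 1, 3, 4, 3, 4, 1, 0]) (.leaf [2, 3, 2, 5, 0, 2, 0, 5, 0, 2, 3, 2, 5, 0, 2, 0, 5, 0, 2, 3, 2, 5, 0, 2, 0, 5, 0])) (.node (.leaf [2, 4, 3, 2, 3, 1, 2, 1, 3, 2, 3, 4, 2, 4]) (.leaf [4, 2, 1, 2, 4, 1]))) (.node (.node (.leaf [3, 0, 2, 0, 1, 0, 2, 0, 1, 3, 1]) (.leaf [4, 2, 1, 2, 4, 1])) (.node (.leaf [2, 0, 5, 3, 1, 0, 5, 3, 1, 2, 0]) (.leaf [4, 2, 1, 2, 4, 1]))))) (.node (.node (.node (.node (.leaf [3, 2, 3, 2, 3, 2, 3, 2]) (.leaf [5, 0, 3, 0, 5, 0, 3, 0, 5, 0, 3, 0])) (.node (.leaf [4, 3, 4, 2, 4, 3, 0, 2, 0, 4, 2, 3, 2]) (.leaf [4, 2, 1, 2, 4, 1]))) (.node (.node (.leaf [0, 3, 1, 0, 3, 0, 2, 1, 2, 3]) (.leaf [4, 2, 1,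 2, 4, 1])) (.node (.leaf [0, 5, 3, 0, 2, 0, 1, 2, 5, 3]) (.leaf [4, 2, 1, 2, 4, 1])))) (.node (.node (.node (.leaf [2, 0, 2, 1, 2, 1, 0, 1, 2, 1]) (.leaf [4, 2, 1, 2, 4, 1])) (.node (.leaf [5, 0, 4, 0, 5, 3, 4, 3]) (.leaf [4, 2, 1, 2, 4, 1]))) (.node (.node (.leaf [4, 3, 2, 4, 0, 1, 4, 2, 0, 1, 3]) (.leaf [4, 2, 1, 2, 4, 1])) (.node (.leaf [0, 2, 5, 3, 1, 2, 0, 2, 1, 3, 5, 2]) (.leaf [4, 2, 1, 2, 4, 1])))))) (.node (.node (.node (.node (.node (.leaf [1, 4, 2, 4, 2, 4, 1, 2]) (.leaf [2, 1, 3, 4, 2, 0, 5, 3, 2, 0, 2, 3, 1, 0, 3, 5, 2, 4, 3])) (.node (.leaf [2, 3, 4, 3, 0, 1, 2, 1, 0, 3, 4, 3]) (.leaf [4, 2, 1, 2, 4, 1]))) (.node (.node (.leaf [0, 3, 0, 4, 1, 0, 3, 0, 1, 4]) (.leaf [4, 2, 1, 2, 4, 1])) (.node (.leaf [3, 0, 2, 0, 1, 2, 5, 3, 0, 5]) (.leaf [4, 2, 1, 2, 4, 1]))))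 (.node (.node (.node (.leaf [3, 4, 1, 0, 4, 0, 1, 3, 4]) (.leaf [4, 2, 1, 2, 4, 1])) (.node (.leaf [5, 0, 1, 0, 5, 1]) (.leaf [4, 2, 1, 2, 4, 1]))) (.node (.node (.leaf [3, 0, 1, 4, 0, 1, 0, 4, 0, 3, 1]) (.leaf [4, 2, 1, 2, 4, 1])) (.node (.leaf [5, 2, 0, 2, 0, 4, 3, 5, 1, 0, 4, 3]) (.leaf [4, 2, 1, 2, 4, 1]))))) (.node (.node (.node (.node (.leaf [4, 3, 4, 3, 4, 3, 4, 3]) (.leaf [3, 0, 3, 5, 3, 0, 3, 5, 3, 0, 3, 5])) (.node (.leaf [4, 3, 4, 2, 3, 2, 4, 0, 2, 0, 3, 4, 2]) (.leaf [4, 2, 1, 2, 4, 1]))) (.node (.node (.leaf [0, 4, 1, 2, 4, 0, 4, 1, 2, 4]) (.leaf [4, 2, 1, 2, 4, 1])) (.node (.leaf [0, 1, 4, 0, 4, 5, 1, 0, 4, 0, 5]) (.leaf [4, 2, 1, 2, 4, 1])))) (.node (.node (.node (.leaf [1, 2, 4, 2, 0, 4, 2, 4, 1, 0]) (.leaf [4, 2, 1, 2, 4, 1])) (.node (.leaf [3, 4, 3, 5, 0, 4,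 0, 5]) (.leaf [4, 2, 1, 2, 4, 1]))) (.node (.node (.leaf [2, 4, 0, 2, 0, 4, 2, 3, 4, 3, 4]) (.leaf [4, 2, 1, 2, 4, 1])) (.node (.leaf [3, 4, 5, 2, 0, 2, 4, 1, 0, 3, 5, 0]) (.leaf [4, 2, 1, 2, 4, 1])))))))) (.node (.node (.node (.node (.node (.node (.node (.leaf [2, 4, 1, 4, 2, 1]) (.leaf [3, 5, 0, 1, 2, 0, 1, 2, 3, 5, 1, 0])) (.node (.leaf [3, 0, 4, 0, 3, 1, 3, 4, 3, 1, 4]) (.leaf [4, 2, 1, 2, 4, 1]))) (.node (.node (.leaf [0, 4, 2, 4, 1, 0, 1, 2, 4, 2]) (.leaf [4, 2, 1, 2, 4, 1])) (.node (.leaf [0, 3, 5, 2, 1, 0, 2, 0, 3, 5]) (.leaf [4, 2, 1, 2, 4, 1])))) (.node (.node (.node (.leaf [0, 1, 4, 3, 1, 3, 4, 0, 1]) (.leaf [1, 2, 4, 2, 3, 4, 1, 2, 5, 1, 2, 4, 2, 3, 4, 1, 2, 5, 1, 2, 4, 2, 3, 4, 1, 2, 5, 1, 2, 4, 2, 3, 4, 1, 2, 5, 1, 2, 4, 2, 3, 4, 1, 2, 5])) (.node (.leaf [0, 4,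 0, 3, 4, 2, 1, 2, 0, 1, 0, 3, 1, 4]) (.leaf [4, 2, 1, 2, 4, 1]))) (.node (.node (.leaf [0, 2, 3, 0, 1, 0, 1, 3, 2, 0, 1]) (.leaf [4, 2, 1, 2, 4, 1])) (.node (.leaf [0, 2, 0, 5, 3, 1, 0, 5, 3, 1, 2]) (.leaf [4, 2, 1, 2, 4, 1]))))) (.node (.node (.node (.node (.leaf [2, 3, 2, 3, 2, 3, 2, 3]) (.leaf [0, 3, 0, 5, 0, 3, 0, 5, 0, 3, 0, 5])) (.node (.leaf [4, 3, 1, 4, 1, 3, 4, 2, 3, 4, 3, 0, 2, 0]) (.leaf [4, 2, 1, 2, 4, 1]))) (.node (.node (.leaf [2, 0, 1, 4, 1, 4, 0, 1, 2, 1]) (.leaf [4, 2, 1, 2, 4, 1])) (.node (.leaf [3, 0, 5, 3, 0, 2, 0, 1, 2, 5]) (.leaf [4, 2, 1, 2, 4, 1])))) (.node (.node (.node (.leaf [2, 1, 2, 0, 2, 1, 2, 1, 0, 1]) (.leaf [4, 2, 1, 2, 4, 1])) (.node (.leaf [3, 5, 3, 1, 3, 5, 3, 1]) (.leaf [4, 2, 1, 2, 4, 1]))) (.node (.node (.leaf [3, 1, 0, 1, 2, 4, 0, 4, 2,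 3, 4]) (.leaf [4, 2, 1, 2, 4, 1])) (.node (.leaf [3, 5, 2, 0, 1, 2, 1, 5, 3, 2, 0, 2]) (.leaf [4, 2, 1, 2, 4, 1])))))) (.node (.node (.node (.node (.node (.leaf [2, 0, 2, 0, 2, 0, 2, 0]) (.leaf [5, 1, 3, 2, 1, 0, 2, 3, 5, 2, 0, 2, 1])) (.node (.leaf [2, 0, 2, 4, 0, 2, 1, 0, 1, 2, 0, 4]) (.leaf [4, 2, 1, 2, 4, 1]))) (.node (.node (.leaf [1, 4, 0, 4, 3, 4, 1, 3, 1, 0]) (.leaf [4, 2, 1, 2, 4, 1])) (.node (.leaf [3, 5, 0, 3, 5, 2, 1, 0, 2, 0]) (.leaf [4, 2, 1, 2, 4, 1])))) (.node (.node (.node (.leaf [4, 3, 4, 1, 0, 4, 0, 1, 3]) (.leaf [5, 0, 1, 3, 5, 1, 5, 1, 0, 5, 0, 1, 3, 5, 1, 5, 1, 0, 5, 0, 1, 3, 5, 1, 5, 1, 0])) (.node (.leaf [4, 5, 4, 5]) (.leaf [4, 2, 1, 2, 4, 1]))) (.node (.node (.leaf [3, 0, 4, 0, 1, 0, 4, 1, 0, 3, 1]) (.leaf [4, 2, 1, 2, 4, 1])) (.node (.leaf [0, 2, 0,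 4, 3, 5, 1, 0, 4, 3, 5, 2]) (.leaf [4, 2, 1, 2, 4, 1]))))) (.node (.node (.node (.node (.leaf [3, 4, 3, 4, 3, 4, 3, 4]) (.leaf [5, 3, 5, 0, 5, 3, 5, 0, 5, 3, 5, 0])) (.node (.leaf [3, 2, 4, 0, 2, 0, 3, 4, 2, 4, 3, 4, 2]) (.leaf [4, 2, 1, 2, 4, 1]))) (.node (.node (.leaf [0, 2, 3, 4, 3, 0, 2, 3, 4, 3]) (.leaf [4, 2, 1, 2, 4, 1])) (.node (.leaf [2, 5, 4, 0, 1, 0, 4, 5, 2, 1]) (.leaf [4, 2, 1, 2, 4, 1])))) (.node (.node (.node (.leaf [1, 0, 1, 2, 4, 2, 0, 4, 2, 4]) (.leaf [4, 2, 1, 2, 4, 1])) (.node (.leaf [5, 3, 4, 3, 5, 0, 4, 0]) (.leaf [4, 2, 1, 2, 4, 1]))) (.node (.node (.leaf [4, 3, 4, 2, 4, 0, 2, 0, 4, 2, 3]) (.leaf [4, 2, 1, 2, 4, 1])) (.node (.leaf [0, 3, 4, 5, 2, 0, 2, 4, 1, 0, 3, 5]) (.leaf [4, 2, 1, 2, 4, 1]))))))) (.node (.node (.node (.node (.node (.node (.leaf [0,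 3, 0, 3, 0, 3]) (.leaf [3, 0, 1, 3, 0, 5, 0, 1, 2, 0, 2, 3, 5])) (.node (.leaf [3, 1, 4, 3, 0, 4, 0, 3, 1, 3, 4]) (.leaf [4, 2, 1, 2, 4, 1]))) (.node (.node (.leaf [4, 1, 3, 1, 0, 1, 4, 0, 4, 3]) (.leaf [4, 2, 1, 2, 4, 1])) (.node (.leaf [5, 2, 1, 0, 2, 0, 3, 5, 0, 3]) (.leaf [4, 2, 1, 2, 4, 1])))) (.node (.node (.node (.leaf [0, 1, 3, 4, 3, 4, 1, 0, 4]) (.leaf [2, 3, 4, 0, 2, 5, 1, 2, 0, 2, 3, 4, 0, 2, 5, 1, 2, 0, 2, 3, 4, 0, 2, 5, 1, 2, 0, 2, 3, 4, 0, 2, 5, 1, 2, 0, 2, 3, 4, 0, 2, 5, 1, 2, 0])) (.node (.leaf [3, 2, 1, 2, 1, 0, 3, 1, 3, 0, 3, 1]) (.leaf [4, 2, 1, 2, 4, 1]))) (.node (.node (.leaf [0, 2, 0, 1, 3, 1, 3, 0, 2, 0, 1]) (.leaf [4, 2, 1, 2, 4, 1])) (.node (.leaf [5, 3, 1, 0, 5, 3, 1, 2, 0, 2, 0]) (.leaf [4, 2, 1, 2, 4, 1]))))) (.node (.node (.node (.node (.leaf [0,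 4, 0, 4, 0, 4, 0, 4]) (.leaf [5, 0, 5, 3, 5, 0, 5, 3, 5, 0, 5, 3])) (.node (.leaf [4, 2, 3, 2, 4, 0, 2, 0, 3, 4, 2, 4, 3]) (.leaf [4, 2, 1, 2, 4, 1]))) (.node (.node (.leaf [2, 3, 1, 2, 1, 2, 3, 1, 2, 1]) (.leaf [4, 2, 1, 2, 4, 1])) (.node (.leaf [5, 3, 0, 2, 0, 1, 2, 5, 3, 0]) (.leaf [4, 2, 1, 2, 4, 1])))) (.node (.node (.node (.leaf [2, 4, 2, 1, 0, 1, 4, 2, 4, 0]) (.leaf [4, 2, 1, 2, 4, 1])) (.node (.leaf [0, 4, 0, 5, 3, 4, 3, 5]) (.leaf [4, 2, 1, 2, 4, 1]))) (.node (.node (.leaf [0, 1, 3, 4, 3, 2, 4, 0, 1, 4, 2]) (.leaf [4, 2, 1, 2, 4, 1])) (.node (.leaf [0, 1, 0, 4, 1, 5, 0, 1, 0, 4, 1, 5]) (.leaf [4, 2, 1, 2, 4, 1])))))) (.node (.node (.node (.node (.node (.leaf [2, 4, 2, 4, 1, 2, 1, 4]) (.leaf [2, 1, 3, 0, 5, 1, 2, 0, 2, 3, 0, 4, 5, 4, 2, 0])) (.node (.leaf [3, 4, 3, 0,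 1, 2, 1, 0, 3, 4, 3, 2]) (.leaf [4, 2, 1, 2, 4, 1]))) (.node (.node (.leaf [4, 0, 3, 0, 1, 4, 1, 3, 0, 3]) (.leaf [4, 2, 1, 2, 4, 1])) (.node (.leaf [1, 2, 5, 3, 0, 5, 3, 0, 2, 0]) (.leaf [4, 2, 1, 2, 4, 1])))) (.node (.node (.node (.leaf [2, 0, 3, 0, 1, 0, 3, 0, 2, 1]) (.leaf [4, 2, 1, 2, 4, 1])) (.node (.leaf [0, 5, 1, 5, 0, 1]) (.leaf [4, 2, 1, 2, 4, 1]))) (.node (.node (.leaf [0, 4, 2, 3, 1, 3, 1, 2, 4, 0, 1]) (.leaf [4, 2, 1, 2, 4, 1])) (.node (.leaf [3, 4, 2, 0, 2, 0, 5, 3, 4, 0, 1, 5]) (.leaf [4, 2, 1, 2, 4, 1]))))) (.node (.node (.node (.node (.leaf [3, 4, 1, 0, 1, 0, 4, 3, 1]) (.leaf [3, 2, 3, 5, 3, 2, 3, 5, 3, 2, 3, 5, 3, 2, 3, 5, 3, 2, 3, 5])) (.node (.leaf [2, 0, 3, 0, 2, 4, 3, 0, 3, 4, 2, 0, 3, 0]) (.leaf [4, 2, 1, 2, 4, 1]))) (.node (.node (.leaf [4, 1, 2, 4, 0,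 4, 1, 2, 4, 0]) (.leaf [4, 2, 1, 2, 4, 1])) (.node (.leaf [5, 1, 0, 4, 0, 5, 0, 1, 4, 0, 4]) (.leaf [4, 2, 1, 2, 4, 1])))) (.node (.node (.node (.leaf [4, 2, 0, 4, 2, 4, 1, 0, 1, 2]) (.leaf [4, 2, 1, 2, 4, 1])) (.node (.leaf [4, 3, 5, 0, 4, 0, 5, 3]) (.leaf [4, 2, 1, 2, 4, 1]))) (.node (.node (.leaf [0, 2, 0, 4, 2, 3, 4, 3, 4, 2, 4]) (.leaf [4, 2, 1, 2, 4, 1])) (.node (.leaf [0, 3, 5, 2, 3, 4, 3, 2, 3, 5, 1, 4]) (.leaf [4, 2, 1, 2, 4, 1])))))))))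

/-- Where the rotations come from, part 0. -/
def hints0 : List (ℕ × ℕ × Bool) := [
  (0, 1, false), (61, 11, true), (32, 0, true), (0, 1, false), (12, 8, true), (0, 1, false), (48, 7, false), (0, 1, false), (8, 2, true), (72, 4, true),
  (40, 7, false), (0, 1, false), (23, 4, false), (0, 1, false), (53, 8, false), (0, 1, false), (4, 3, false), (67, 7, true), (37, 9, true), (0, 1, false),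
  (17, 7, true), (0, 1, false), (49, 6, true), (0, 1, false), (10, 5, false), (0, 1, false), (46, 0, true), (0, 1, false), (29, 9, false), (0, 1, false),
  (56, 5, false), (0, 1, false), (2, 0, false), (64, 1, true), (34, 2, true), (0, 1, false), (14, 4, false), (0, 1, false), (49, 5, false), (0, 1, false),
  (9, 5, true), (76, 1, true), (44, 0, false), (0, 1, false), (26, 2, true), (0, 1, false), (53, 10, true), (0, 1, false), (6, 1, false), (69, 1, false),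
  (39, 2, true), (0, 1, false), (21, 3, true), (0, 1, false), (50, 4, false), (0, 1, false), (12, 0, true), (0, 1, false), (48, 3, false), (0, 1, false),
  (31, 5, false), (0, 1, false), (60, 6, true), (0, 1, false), (1, 0, false), (63, 11, false), (33, 4, true), (0, 1, false), (13, 4, false), (0, 1, false),
  (49, 2, false), (0, 1, false), (9, 3, true), (74, 4, true), (42, 0, false), (0, 1, false), (25, 2, true), (0, 1, false), (53, 4, true), (0, 1, false),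
  (5, 1, false), (68, 3, false), (39, 11, false), (0, 1, false), (19, 9, true), (0, 1, false), (49, 8, true), (0, 1, false), (11, 9, false), (0, 1, false),
  (48, 0, false), (0, 1, false), (30, 1, true), (0, 1, false), (58, 2, false), (0, 1, false), (3, 4, false), (66, 12, true), (36, 10, false), (0, 1, false),
  (15, 0, false), (0, 1, false), (49, 0, true), (0, 1, false), (9, 8, true), (0, 1, false), (45, 0, false), (0, 1, false), (27, 1, true), (0, 1, false),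
  (54, 11, true), (0, 1, false), (7, 1, false), (70, 2, false), (39, 12, true), (0, 1, false), (22, 2, true), (0, 1, false), (52, 5, true), (0, 1, false),
  (12, 5, true), (0, 1, false), (48, 5, false), (0, 1, false), (31, 3, true), (0, 1, false), (60, 9, true), (0, 1, false), (0, 4, false), (62, 2, true),
  (33, 2, true), (0, 1, false), (12, 9, true), (0, 1, false), (49, 1, false), (0, 1, false), (8, 6, true), (73, 1, true), (41, 0, true), (0, 1, false),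
  (24, 2, true), (0, 1, false), (53, 3, true), (0, 1, false), (5, 0, false), (68, 0, false), (38, 9, true), (0, 1, false), (18, 5, true), (0, 1, false),
  (49, 7, true), (0, 1, false), (11, 7, false), (0, 1, false), (47, 3, false), (0, 1, false), (29, 3, true), (0, 1, false), (57, 10, true), (0, 1, false),
  (2, 1, false), (65, 5, false), (35, 11, false), (0, 1, false), (14, 6, false), (0, 1, false), (49, 9, false), (0, 1, false), (9, 7, true), (77, 2, true),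
  (44, 1, false), (0, 1, false), (27, 0, false), (0, 1, false), (54, 1, true), (0, 1, false), (7, 0, false), (69, 2, false), (39, 3, true), (0, 1, false),
  (21, 4, true), (0, 1, false), (51, 9, false), (0, 1, false), (12, 3, true), (0, 1, false), (48, 4, false), (0, 1, false), (31, 0, true), (0, 1, false),
  (60, 8, true), (0, 1, false), (1, 1, false), (64, 0, true), (33, 10, true), (0, 1, false), (14, 1, false), (0, 1, false), (49, 3, false), (0, 1, false),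
  (9, 4, true), (75, 4, true), (43, 3, true), (0, 1, false), (25, 7, true), (0, 1, false), (53, 6, true), (0, 1, false), (6, 0, false), (69, 0, false),
  (39, 1, true), (0, 1, false), (20, 2, true), (0, 1, false), (49, 9, true), (0, 1, false), (12, 1, false), (0, 1, false), (48, 1, false), (0, 1, false),
  (30, 9, true), (0, 1, false), (59, 0, true), (0, 1, false), (3, 6, false), (67, 3, true), (36, 11, false), (0, 1, false), (16, 1, true), (0, 1, false),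
  (49, 4, true), (0, 1, false), (10, 0, false), (0, 1, false), (45, 3, false), (0, 1, false), (28, 5, false), (0, 1, false), (55, 0, true), (0, 1, false),
  (8, 8, false), (71, 0, false), (40, 6, false), (0, 1, false), (22, 3, true), (0, 1, false), (52, 10, true), (0, 1, false), (12, 7, true), (0, 1, false),
  (48, 6, false), (0, 1, false), (31, 5, true), (0, 1, false), (61, 9, true), (0, 1, false)]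

/-- Where the rotations come from. -/
def hints : List (ℕ × ℕ × Bool) := hints0

/-- The subgroup words. -/
def subs : List (List ℕ) := [[0], [1], [2], [3], [4]]

/-- The parameters. -/
def P : Params := ⟨tab, 6, rots, subs⟩

/-- The spanning tree, part 0. -/
def tree0 : List ℕ := [
  5, 9, 14, 22, 24, 33, 35, 41, 52, 56,
  64, 27, 60, 82]

/-- The spanning tree. -/
def tree : List ℕ := tree0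

/-- The known edges at check point 0. -/
def mask0 : ℕ := 0x10448415530828a5950ca20

/-- The known edges at check point 1. -/
def mask1 : ℕ := 0x165fe597db68bebdf5ffeff

/-- The known edges at check point 2. -/
def mask2 : ℕ := 0x165ff597df68bebdf5ffeff

end Cfsg.Agent.CoThreeSp6.LevelE
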